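import Cfsg.Agent.DCE.HN.Up
import Cfsg.Agent.DCE.HN.Nets
import Cfsg.Agent.DCE.Word

set_option autoImplicit false
set_option maxRecDepth 100000

namespace Cfsg.Agent.DCE.HN
open Cfsg.Agent.Comp Cfsg.Agent.DCE

noncomputable def phi : H →* Equiv.Perm ℕ := (presH.rep ok sat).choose

theorem rep : Rep h 6 1408 T phi := (presH.rep ok sat).choose_spec

theorem cardH : Finite H ∧ Nat.card H = 177408000 ∧ Function.Injective phi := rep.card_eq upH low

theorem st0 {bs : List ℕ} {m : ℕ} (h : BaseGe (genW (sig T) lowW1) bs m) :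
    BaseGe (genW (sig T) (letters 6)) (0 :: bs) (1408 * m) :=
  BaseGe.step (W' := lowW1) (b := 0) (n := 1408) ok (le_of_subOK eqs (show subOK (letters 6) lowW1 E = true by decide +kernel)) (by decide +kernel)
    (le_ncard_of_ivl (a := 0) ok (by norm_num) (show Nat.beq (grow T (letters 6) [0, 4, 0, 2, 0, 2, 4, 2, 0, 2, 4, 2, 0, 2, 4, 2, 0, 2, 4] (pt (nat_lit 0))) (ivl (nat_lit 0) (nat_lit 1408)) = true by decide +kernel)) h

theorem st1 {bs : List ℕ} {m : ℕ} (h : BaseGe (genW (sig T) lowW2) bs m) :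
    BaseGe (genW (sig T) lowW1) (165 :: bs) (350 * m) :=
  BaseGe.step (W' := lowW2) (b := 165) (n := 350) ok (le_of_subOK eqs (show subOK lowW1 lowW2 E = true by decide +kernel)) (by decide +kernel)
    (le_ncard_of_orbGe ok (by norm_num) (show orbGe (nat_lit 1408) (nat_lit 11) T lowW1 [0, 1, 0, 1, 0, 1, 0, 1, 0, 1, 0, 1, 0, 1, 0, 1, 0, 0] (nat_lit 165) (nat_lit 350) = true by decide +kernel)) h

theorem st2 {bs : List ℕ} {m : ℕ} (h : BaseGe (genW (sig T) lowW3) bs m) :
    BaseGe (genW (sig T) lowW2) (619 :: bs) (180 * m) :=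
  BaseGe.step (W' := lowW3) (b := 619) (n := 180) ok (le_of_subOK eqs (show subOK lowW2 lowW3 E = true by decide +kernel)) (by decide +kernel)
    (le_ncard_of_orbGe ok (by norm_num) (show orbGe (nat_lit 1408) (nat_lit 11) T lowW2 [0, 1, 2, 0, 1, 2, 0, 1, 2, 0, 1] (nat_lit 619) (nat_lit 180) = true by decide +kernel)) h

theorem st3 {bs : List ℕ} {m : ℕ} (h : BaseGe (genW (sig T) []) bs m) :
    BaseGe (genW (sig T) lowW3) (1292 :: bs) (2 * m) :=
  BaseGe.step (W' := []) (b := 1292) (n := 2) ok (le_of_subOK eqs (show subOK lowW3 [] E = true by decide +kernel)) (by decide +kernel)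
    (le_ncard_of_orbGe ok (by norm_num) (show orbGe (nat_lit 1408) (nat_lit 11) T lowW3 [0] (nat_lit 1292) (nat_lit 2) = true by decide +kernel)) h

theorem cardR : Nat.card phi.range = 177408000 := by
  rw [rep.range, rep.card_gen cardH.2.2, cardH.2.1]

def bs : List Nat := [0, 165, 619, 1292]

theorem base : IsBase phi.range bs :=
  BaseGe.isBase (st0 (st1 (st2 (st3 (BaseGe.nil _))))) rep.range.ge (by rw [cardR]) (by norm_num)

theorem trans : ∀ i < 1408, ∃ g, phi g 0 = i := rep.trans (sch := [0, 4, 0, 2, 0, 2, 4, 2, 0, 2, 4, 2, 0, 2, 4, 2, 0, 2, 4]) (by decide +kernel)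

def W0 : List (List Nat) := [[2], [1, 2, 0]]

theorem eq6 : ev (sig T) [6] = ev (sig T) [1, 2, 0] :=
  eq_of_eqsP (E := [([6], [1, 2, 0])]) ok (by norm_num)
    (show eqsP (nat_lit 1408) (nat_lit 11) (nat_lit 0) (nat_lit 11) T _ = true by decide +kernel)
    _ (List.mem_singleton_self _)

theorem stab : (genW h W0).index = 1408 ∧ ∀ g, g ∈ genW h W0 ↔ phi g 0 = 0 := by
  have := cardH.1
  have h1 : 126000 ≤ Nat.card (genW h W0) := by
    rw [rep.card_genW cardH.2.2 (by decide +kernel)]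
    have := ok.finite W0
    refine low_1.trans (Subgroup.card_le_of_le (genW_le.mpr ?_))
    simp only [lowW1, List.forall_mem_cons]
    exact ⟨ev_mem_genW (by decide), eq6 ▸ ev_mem_genW (by decide), by simp⟩
  have h2 := (genW h W0).index_mul_card
  rw [cardH.2.1] at h2
  refine rep.stab_eq (by decide +kernel) (by norm_num) trans (by decide +kernel) ?_
  rw [presH.top, Subgroup.relIndex_top_right]
  exact ⟨Subgroup.index_ne_zero_of_finite, by nlinarith⟩

theorem satH : Sat s RH := pres.sat.mono (by decide +kernel)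

/-- the map of `H` to `G` -/
noncomputable def io : H →* G := (presH.univ G s satH).choose

theorem io_h : ∀ x < 6, io (h x) = s x := (presH.univ G s satH).choose_spec

theorem io_ev {w : List ℕ} (hw : ltB 6 w = true) : io (ev h w) = ev s w :=
  (map_ev _ io w).trans (ev_congr fun x hx => io_h x (ltB_spec hw x hx))

def DT : List (List Nat × List (Nat × Nat × Nat × Nat)) :=
  [([0, 6, 1, 7, 7], [(3, 18, 0, 0), (1, 19, 1, 1), (2, 19, 1, 0), (1, 18, 0, 0), (0, 19, 1, 3)]),
   ([2, 6, 3, 7], [(0, 20, 0, 2)]),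
   ([1, 2, 0, 6, 1, 3, 0, 7], [(2, 23, 1, 0), (3, 20, 0, 1), (1, 20, 0, 2), (0, 23, 0, 1)]),
   ([7, 0, 0, 7, 1, 1], [(2, 23, 0, 3), (0, 19, 0, 2)]),
   ([6, 6, 0, 7, 1], [(0, 23, 0, 0)]),
   ([6, 0, 6, 1, 1, 7, 0], [(3, 26, 1, 2), (0, 19, 1, 4)]),
   ([6, 1, 6, 1, 7, 1, 1], [(2, 23, 1, 4), (0, 26, 0, 4), (0, 22, 0, 0)]),
   ([6, 4, 6, 5, 0, 0, 7, 1, 1, 5], [(4, 26, 1, 5), (0, 21, 1, 1), (2, 14, 0, 0), (0, 14, 0, 0)])]

theorem satT : Sat s (DT.map Prod.fst) :=
  sat_der (L := 8) (iv := iv) (R := R ++ [[0, 0, 0, 0]])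
    (pres.sat.append ((satB satH).mono (by decide +kernel))) DT (by decide +kernel)

theorem invG : ∀ y < 8, invL iv y < 8 ∧ s (invL iv y) = (s y)⁻¹ :=
  (invOK_spec (by decide +kernel : invOK 8 iv R = true) pres.sat).1

theorem eqG {D : List (List ℕ)} (hD : Sat s D) (u v : List ℕ)
    (e : (ltB 8 v && D.contains (u ++ invW iv v)) = true) : ev s u = ev s v := by
  simp only [Bool.and_eq_true, List.contains_iff_mem] at e
  have := hD _ e.2
  rwa [ev_append, ev_invW invG (ltB_spec e.1), mul_inv_eq_one] at this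

theorem cm : Cm0 io phi (s 6) := by
  intro u hu
  have h1 : genW h W0 ≤ (Subgroup.centralizer {s 6}).comap io := genW_le.mpr (by
    simp only [W0, List.forall_mem_cons, Subgroup.mem_comap, Subgroup.mem_centralizer_singleton_iff]
    refine ⟨?_, ?_, by simp⟩
    · rw [io_ev (by decide)]
      simpa only [ev_cons, ev_nil, mul_one, mul_assoc] using
        eqG satT [2, 6] [6, 2] (by decide +kernel)
    · rw [io_ev (by decide)]
      simpa only [ev_cons, ev_nil, mul_one, mul_assoc] using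
        eqG satT [1, 2, 0, 6] [6, 1, 2, 0] (by decide +kernel))
  exact Subgroup.mem_centralizer_singleton_iff.mp (h1 ((stab.2 u).mpr hu))

theorem ctx : Ctx io phi (s 6) h 6 1408 iv6 T bs :=
  ⟨rep, cardH.2.2, base, cm, invH presH.sat, by norm_num, by decide⟩

theorem tinv : (s 6)⁻¹ = io (ev h [0, 0]) * s 6 * io (ev h [1, 1]) := by
  rw [io_ev (by decide), io_ev (by decide), ← show s 7 = (s 6)⁻¹ from (invG 6 (by norm_num)).2]
  simpa only [ev_cons, ev_nil, mul_one, mul_assoc] using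
    eqG satT [7] [0, 0, 6, 1, 1] (by decide +kernel)

theorem rwG (c d f : List ℕ) (e : (ltB 6 c && ltB 6 d && ltB 6 f) = true)
    (e' : ev s (6 :: (c ++ [6])) = ev s (d ++ 6 :: f)) : RW io (s 6) h c d f := by
  simp only [Bool.and_eq_true] at e
  unfold RW
  rw [io_ev e.1.1, io_ev e.1.2, io_ev e.2]
  simpa only [ev_cons, ev_append, ev_nil, mul_one, mul_assoc] using e'

theorem r0 : RW io (s 6) h [] [0] [1] := rwG _ _ _ (by decide) (eqG satT _ _ (by decide +kernel))

theorem r1 : RW io (s 6) h [0] [1] [0, 0] := rwG _ _ _ (by decide) (eqG satT _ _ (by decide +kernel))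

theorem r2 : RW io (s 6) h [1] [0, 0] [0] := rwG _ _ _ (by decide) (eqG satT _ _ (by decide +kernel))

theorem r3 : RW io (s 6) h [4] [4, 0, 0] [1, 1, 4] :=
  rwG _ _ _ (by decide) (eqG satT _ _ (by decide +kernel))

theorem range_io : io.range = genW s [[0], [2], [4]] := by
  obtain ⟨e1, e2, e3⟩ := inv1 satH
  rw [MonoidHom.range_eq_map, ← presH.top, gen, map_genW,
    genW_congr (t := s) fun w hw x hx => io_h x ((by decide +kernel : ∀ w ∈ letters 6, ∀ x ∈ w, x < 6) w hw x hx)]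
  refine le_antisymm (gen_le.mpr fun x hx => ?_) (genW_mono (by decide +kernel))
  have k : ∀ x, [x] ∈ [[0], [2], [4]] → s x ∈ genW s [[0], [2], [4]] := fun x => letter_mem_genW
  interval_cases x
  exacts [k 0 (by decide), e1 ▸ inv_mem (k 0 (by decide)), k 2 (by decide),
    e2 ▸ inv_mem (k 2 (by decide)), k 4 (by decide), e3 ▸ inv_mem (k 4 (by decide))]

theorem genK (K : Subgroup G) (hK : io.range ≤ K) (ht : s 6 ∈ K) : K = ⊤ := by
  rw [eq_top_iff, ← pres.top, gen_le]
  intro x hx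
  by_cases c : x < 6
  · exact hK ⟨h x, io_h x c⟩
  · obtain rfl | rfl : x = 6 ∨ x = 7 := by omega
    · exact ht
    · exact (show s 7 = (s 6)⁻¹ from (invG 6 (by norm_num)).2) ▸ inv_mem ht

end Cfsg.Agent.DCE.HN
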