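import Cfsg.Agent.DCE.HN.Base

set_option autoImplicit false
set_option maxRecDepth 100000

namespace Cfsg.Agent.DCE.HN
open Cfsg.Agent.Comp Cfsg.Agent.DCE

noncomputable def w0 : G := 1

noncomputable def w1 : G := w0 * io (ev h []) * s 6

noncomputable def w2 : G := w1 * io (ev h [4, 0]) * s 6

noncomputable def w3 : G := w1 * io (ev h [4, 1]) * s 6

noncomputable def w4 : G := w1 * io (ev h [4, 0, 3, 4]) * s 6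

noncomputable def w5 : G := w1 * io (ev h [4, 2, 4, 2, 4]) * s 6

noncomputable def w6 : G := w3 * io (ev h [0, 3, 4]) * s 6

noncomputable def w7 : G := w4 * io (ev h [4, 3, 4, 0]) * s 6

noncomputable def w8 : G := w6 * io (ev h [0, 2, 4]) * s 6

/-- the representatives of the double cosets -/
noncomputable def w (i : ℕ) : G := [w0, w1, w2, w3, w4, w5, w6, w7, w8].getD i 1

theorem e0 : EW io (s 6) h (w 0) [] [] (w 1) :=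
  EW.defn _ _

def c0 : List Nat := [3]

theorem a0 : SW io h (w 1) c0 :=
  ctx.cmp (nat_lit 0) e0 (SW.base [3]) e0 (by decide +kernel)

def c1 : List Nat := [0, 3, 1]

theorem a1 : SW io h (w 1) c1 :=
  ctx.cmp (nat_lit 0) e0 (SW.base [1, 0, 0, 3, 4, 0, 4]) e0 (by decide +kernel)

theorem b0 : EW io (s 6) h (w 1) [0, 0] [1, 1] (w 0) :=
  ctx.back tinv e0 (by decide +kernel)

theorem e1 : EW io (s 6) h (w 1) [1] [1] (w 1) :=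
  ctx.tri [] (nat_lit 0) (nat_lit 4) b0 (SW.base [0, 0]) e0 r0 (by decide +kernel)

theorem e2 : EW io (s 6) h (w 1) [0] [0, 0] (w 1) :=
  ctx.tri [] (nat_lit 1) (nat_lit 1) b0 (SW.base [1]) e0 r1 (by decide +kernel)

theorem e3 : EW io (s 6) h (w 1) [4] [0, 0, 4] (w 1) :=
  ctx.tri [] (nat_lit 2) (nat_lit 2) b0 (SW.base [0, 0, 4]) e0 r3 (by decide +kernel)

theorem e4 : EW io (s 6) h (w 1) [4, 0] [] (w 2) :=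
  EW.defn _ _

def c2 : List Nat := [3, 0, 3, 3, 1, 3]

theorem a2 : SW io h (w 2) c2 :=
  ctx.cmp (nat_lit 3) e4 (SW.app a1 (SW.app a0 (SW.app a0 a1))) e4 (by decide +kernel)

def c3 : List Nat := [0, 3, 0, 3, 3, 0, 3, 0]

theorem a3 : SW io h (w 2) c3 :=
  ctx.cmp (nat_lit 3) e4 (SW.app a0 (SW.app a1 (SW.app a1 a0))) e4 (by decide +kernel)

def c4 : List Nat := [3, 3, 0, 2, 2, 1, 3, 3]

theorem a4 : SW io h (w 2) c4 :=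
  ctx.cmp (nat_lit 3) e4 (SW.app a1 (SW.app a1 (SW.app a0 (SW.app a0 (SW.app a0 (SW.app a0 (SW.app a1 a1))))))) e4 (by decide +kernel)

def c5 : List Nat := [3, 0, 3, 0, 2, 2, 2, 0, 3, 0, 3]

theorem a5 : SW io h (w 2) c5 :=
  ctx.cmp (nat_lit 3) e4 (SW.app a1 (SW.app a0 (SW.app a1 (SW.app a1 (SW.app a1 (SW.app a0 a1)))))) e4 (by decide +kernel)

theorem b2 : EW io (s 6) h (w 1) [1, 1, 0, 0] [1, 1, 1] (w 1) :=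
  ctx.back tinv e2 (by decide +kernel)

theorem e5 : EW io (s 6) h (w 1) [4, 1, 1] [0, 0, 4] (w 2) :=
  ctx.tri [] (nat_lit 2) (nat_lit 45) b2 (SW.nil _) e4 r3 (by decide +kernel)

theorem e6 : EW io (s 6) h (w 1) [4, 0] [0, 4] (w 2) :=
  ctx.tri [] (nat_lit 0) (nat_lit 3) e3 (SW.nil _) e5 r0 (by decide +kernel)

def c6 : List Nat := [0, 4]

theorem a6 : SW io h (w 2) c6 :=
  ctx.cmp (nat_lit 3) e6 (SW.nil _) e4 (by decide +kernel)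

theorem b5 : EW io (s 6) h (w 2) [5, 1, 1, 0, 0] [1, 1, 0, 0, 5] (w 1) :=
  ctx.back tinv e5 (by decide +kernel)

theorem e7 : EW io (s 6) h (w 2) [4, 1] [0, 0] (w 2) :=
  ctx.tri [] (nat_lit 1) (nat_lit 44) b5 (SW.nil _) e4 r1 (by decide +kernel)

theorem e8 : EW io (s 6) h (w 1) [4, 1] [] (w 3) :=
  EW.defn _ _

def c7 : List Nat := [0, 3, 0, 3, 0, 3, 0, 3]

theorem a7 : SW io h (w 3) c7 :=
  ctx.cmp (nat_lit 44) e8 (SW.app a0 (SW.app a1 (SW.app a0 a1))) e8 (by decide +kernel)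

def c8 : List Nat := [3, 0, 3, 3, 1, 3]

theorem a8 : SW io h (w 3) c8 :=
  ctx.cmp (nat_lit 44) e8 (SW.app a1 (SW.app a0 (SW.app a0 a1))) e8 (by decide +kernel)

def c9 : List Nat := [0, 3, 0, 3, 0, 2, 2, 0, 3]

theorem a9 : SW io h (w 3) c9 :=
  ctx.cmp (nat_lit 44) e8 (SW.app a0 (SW.app a1 (SW.app a0 (SW.app a0 (SW.app a0 (SW.app a0 a1)))))) e8 (by decide +kernel)

theorem e9 : EW io (s 6) h (w 1) [4, 1] [0, 0] (w 3) :=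
  ctx.tri [] (nat_lit 1) (nat_lit 44) e3 (SW.nil _) e8 r1 (by decide +kernel)

def c10 : List Nat := [0, 0]

theorem a10 : SW io h (w 3) c10 :=
  ctx.cmp (nat_lit 44) e9 (SW.nil _) e8 (by decide +kernel)

theorem e10 : EW io (s 6) h (w 1) [4, 1] [0, 0, 4] (w 3) :=
  ctx.tri [] (nat_lit 2) (nat_lit 44) e1 (SW.nil _) e8 r3 (by decide +kernel)

def c11 : List Nat := [0, 0, 4]

theorem a11 : SW io h (w 3) c11 :=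
  ctx.cmp (nat_lit 44) e10 (SW.nil _) e8 (by decide +kernel)

theorem e11 : EW io (s 6) h (w 2) [4, 1, 1] [0] (w 3) :=
  ctx.tri [] (nat_lit 4) (nat_lit 45) b5 (SW.nil _) e8 r2 (by decide +kernel)

theorem e12 : EW io (s 6) h (w 1) [4, 0, 3, 4] [] (w 4) :=
  EW.defn _ _

def c12 : List Nat := [0, 3, 0, 3, 0, 3, 0, 3]

theorem a12 : SW io h (w 4) c12 :=
  ctx.cmp (nat_lit 173) e12 (SW.app a1 (SW.app a0 (SW.app a1 a0))) e12 (by decide +kernel)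

def c13 : List Nat := [0, 2, 0, 3, 0, 3, 0, 3, 0, 3, 3, 1]

theorem a13 : SW io h (w 4) c13 :=
  ctx.cmp (nat_lit 173) e12 (SW.app a0 (SW.app a0 (SW.app a1 (SW.app a0 (SW.app a1 (SW.app a0 (SW.app a0 (SW.app a0 (SW.app a0 a0))))))))) e12 (by decide +kernel)

def c14 : List Nat := [0, 2, 0, 3, 0, 3, 0, 2, 2, 2, 0, 2, 0, 2, 0, 3, 0]

theorem a14 : SW io h (w 4) c14 :=
  ctx.cmp (nat_lit 173) e12 (SW.app a0 (SW.app a0 (SW.app a1 (SW.app a1 (SW.app a1 (SW.app a0 (SW.app a0 (SW.app a0 a0)))))))) e12 (by decide +kernel)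

def c15 : List Nat := [3, 0, 2, 2, 0, 3, 0, 3, 0]

theorem a15 : SW io h (w 4) c15 :=
  ctx.cmp (nat_lit 173) e12 (SW.app a0 (SW.app a1 (SW.app a0 (SW.app a0 (SW.app a0 (SW.app a0 a1)))))) e12 (by decide +kernel)

theorem e13 : EW io (s 6) h (w 1) [4, 3, 0, 3, 4, 1] [0, 2, 2, 2, 0, 3, 0, 3, 4, 3, 0, 3, 3, 0, 4, 3, 4] (w 4) :=
  ctx.tri [1, 3, 0, 3] (nat_lit 48) (nat_lit 15) e3 (SW.app a0 (SW.app a1 (SW.app a1 (SW.app a1 (SW.app a1 (SW.app a0 (SW.app a1 (SW.app a1 (SW.app a0 a0))))))))) e12 r3 (by decide +kernel)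

def c16 : List Nat := [3, 0, 4, 2, 2, 2, 0, 3, 0, 3, 0, 4, 2, 0, 2, 0, 2, 2, 2, 0, 4, 2]

theorem a16 : SW io h (w 4) c16 :=
  ctx.cmp (nat_lit 15) e13 (SW.app a0 (SW.app a1 (SW.app a1 (SW.app a1 (SW.app a1 (SW.app a0 (SW.app a1 (SW.app a1 (SW.app a0 a0))))))))) e12 (by decide +kernel)

theorem e14 : EW io (s 6) h (w 2) [4, 3, 0, 3, 4, 1] [2, 4, 3, 0, 4, 3, 3, 0, 3, 3, 0, 3, 1, 2, 2, 2, 4, 3, 3, 0] (w 4) :=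
  ctx.tri [1, 3, 0, 3] (nat_lit 48) (nat_lit 15) b5 (SW.app a1 (SW.app a1 (SW.app a1 (SW.app a0 (SW.app a1 (SW.app a1 (SW.app a0 a0))))))) e12 r3 (by decide +kernel)

theorem b4 : EW io (s 6) h (w 2) [0, 0] [1, 1, 1, 5] (w 1) :=
  ctx.back tinv e4 (by decide +kernel)

theorem e15 : EW io (s 6) h (w 2) [3, 4] [0, 2, 2, 2, 0, 2, 4, 2, 0, 3, 3, 0, 3, 3, 4, 3, 4] (w 4) :=
  ctx.tri [3] (nat_lit 6) (nat_lit 6) b4 (SW.app a1 (SW.app a0 (SW.app a0 (SW.app a0 (SW.app a1 (SW.app a1 (SW.app a1 (SW.app a1 (SW.app a0 (SW.app a0 (SW.app a1 a1))))))))))) e12 r3 (by decide +kernel)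

theorem b15 : EW io (s 6) h (w 4) [5, 2, 5, 2, 2, 1, 2, 2, 1, 3, 5, 3, 1, 3, 3, 3, 1, 0, 0] [1, 1, 5, 2] (w 2) :=
  ctx.back tinv e15 (by decide +kernel)

theorem e16 : EW io (s 6) h (w 2) [4, 0, 3, 4, 1] [3, 0, 2, 2, 2, 0, 2, 2, 4, 3, 4, 3, 0, 3, 0, 3] (w 2) :=
  ctx.tri [1, 2, 0] (nat_lit 47) (nat_lit 265) e15 (SW.app a15 a16) b15 r3 (by decide +kernel)

theorem e17 : EW io (s 6) h (w 1) [4, 3, 4] [0, 2, 4, 2, 0, 3, 0, 3, 4, 3, 3, 0, 3, 0, 3, 0, 2, 2, 4] (w 2) :=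
  ctx.tri [3] (nat_lit 6) (nat_lit 172) e5 (SW.app a3 (SW.app a3 a4)) e16 r3 (by decide +kernel)

theorem e18 : EW io (s 6) h (w 1) [4, 3, 4, 0] [0, 2, 0, 2, 2, 2, 0, 3, 3, 0, 2, 2, 0, 2, 2, 2, 4, 3] (w 4) :=
  ctx.tri [] (nat_lit 0) (nat_lit 322) e17 (SW.app a2 (SW.app a5 a6)) e14 r0 (by decide +kernel)

def c17 : List Nat := [3, 0, 3, 3, 0, 3, 0, 3, 3, 0, 3, 3, 4, 3, 0, 3, 0, 2, 0]

theorem a17 : SW io h (w 4) c17 :=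
  ctx.cmp (nat_lit 322) e18 (SW.app a1 (SW.app a0 (SW.app a0 (SW.app a1 (SW.app a0 (SW.app a0 (SW.app a1 (SW.app a0 (SW.app a0 (SW.app a0 a1)))))))))) e12 (by decide +kernel)

theorem e19 : EW io (s 6) h (w 1) [3, 4, 1] [3, 0, 2, 0, 2, 2, 2, 0, 4, 2, 0, 2, 0, 3, 3, 0, 4, 2, 4] (w 3) :=
  ctx.tri [3, 3, 1, 2, 0, 2, 1, 3, 0, 3, 3] (nat_lit 800) (nat_lit 43) e17 a6 e11 r3 (by decide +kernel)

def c18 : List Nat := [3, 4, 2, 4, 2, 0, 3, 0, 3, 0, 2, 2, 2, 1, 3, 0, 2, 0, 4]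

theorem a18 : SW io h (w 3) c18 :=
  ctx.cmp (nat_lit 43) e19 a0 e8 (by decide +kernel)

theorem e20 : EW io (s 6) h (w 2) [3, 1, 3, 4, 1] [2, 0, 3, 3, 0, 3, 0, 3, 3, 0, 3, 0, 2, 1, 2, 2, 4, 3, 4, 2] (w 2) :=
  ctx.tri [1, 3, 0, 3] (nat_lit 48) (nat_lit 48) b4 (SW.app a0 (SW.app a0 (SW.app a0 (SW.app a1 (SW.app a0 (SW.app a0 (SW.app a1 a1))))))) e17 r3 (by decide +kernel)

theorem b17 : EW io (s 6) h (w 2) [5, 3, 3, 1, 2, 1, 2, 1, 2, 2, 5, 2, 1, 2, 1, 3, 5, 3, 1, 0, 0] [1, 1, 5, 2, 5] (w 1) :=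
  ctx.back tinv e17 (by decide +kernel)

theorem e21 : EW io (s 6) h (w 2) [4, 3, 4, 2, 4, 1] [4, 2, 0, 3, 0, 3, 4, 3, 3, 4, 3, 3, 4, 2, 1, 3, 3, 0, 3, 3] (w 4) :=
  ctx.tri [] (nat_lit 1) (nat_lit 943) b17 (SW.app a0 (SW.app a0 (SW.app a1 a0))) e12 r1 (by decide +kernel)

theorem b8 : EW io (s 6) h (w 3) [0, 0] [1, 1, 0, 5] (w 1) :=
  ctx.back tinv e8 (by decide +kernel)

theorem e22 : EW io (s 6) h (w 3) [3, 4] [0, 0, 4] (w 4) :=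
  ctx.tri [3] (nat_lit 6) (nat_lit 6) b8 (SW.nil _) e12 r3 (by decide +kernel)

theorem b21 : EW io (s 6) h (w 4) [2, 2, 1, 2, 2, 0, 3, 5, 2, 2, 5, 2, 2, 5, 2, 1, 2, 1, 3, 5, 0, 0] [1, 1, 0, 5, 3, 5, 2, 5] (w 2) :=
  ctx.back tinv e21 (by decide +kernel)

theorem e23 : EW io (s 6) h (w 4) [1] [3, 3, 0, 2, 2, 2, 0, 3, 4, 3, 0, 2, 0, 2, 4, 2, 2, 4, 2] (w 4) :=
  ctx.tri [] (nat_lit 1) (nat_lit 4) b21 (SW.app a2 (SW.app a5 a6)) e14 r1 (by decide +kernel)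

theorem b14 : EW io (s 6) h (w 4) [1, 2, 2, 5, 3, 3, 3, 0, 2, 1, 2, 2, 1, 2, 2, 5, 1, 2, 5, 3, 0, 0] [1, 1, 0, 5, 2, 1, 2, 5] (w 2) :=
  ctx.back tinv e14 (by decide +kernel)

theorem e24 : EW io (s 6) h (w 4) [4, 3, 1, 2, 1, 3, 3, 3, 4] [0, 2, 0, 2, 0, 3, 0, 3, 4, 3, 0, 2, 0, 2, 4, 2, 0, 3, 0, 2] (w 4) :=
  ctx.tri [3, 3, 3] (nat_lit 77) (nat_lit 1074) b14 (SW.app a5 a6) e14 r3 (by decide +kernel)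

theorem b22 : EW io (s 6) h (w 4) [5, 1, 1, 0, 0] [1, 1, 5, 2] (w 3) :=
  ctx.back tinv e22 (by decide +kernel)

theorem e25 : EW io (s 6) h (w 4) [4, 0, 3, 4, 1] [3, 3, 0, 3, 0, 2, 0, 2, 0, 3, 0, 3, 1, 3, 4, 0, 2, 2, 4, 3, 3] (w 4) :=
  ctx.tri [1, 3, 0] (nat_lit 46) (nat_lit 265) b22 (SW.app a7 (SW.app a9 (SW.app a18 (SW.app a18 (SW.app a18 a8))))) e22 r3 (by decide +kernel)

theorem e26 : EW io (s 6) h (w 1) [4, 2, 4, 2, 4] [] (w 5) :=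
  EW.defn _ _

def c19 : List Nat := [4, 3, 4, 3, 4, 3, 4, 3, 0, 3, 1, 2, 2, 2, 4, 3, 0, 4, 2, 0]

theorem a19 : SW io h (w 5) c19 :=
  ctx.cmp (nat_lit 410) e26 (SW.app a0 (SW.app a0 (SW.app a1 (SW.app a0 (SW.app a0 (SW.app a0 (SW.app a1 a0))))))) e26 (by decide +kernel)

def c20 : List Nat := [4, 2, 2, 2, 0, 2, 0, 2, 2, 0, 3, 3, 4, 3, 3, 0, 4, 2, 4, 3]

theorem a20 : SW io h (w 5) c20 :=
  ctx.cmp (nat_lit 410) e26 (SW.app a1 (SW.app a0 (SW.app a0 (SW.app a1 (SW.app a1 (SW.app a1 (SW.app a1 (SW.app a0 (SW.app a0 (SW.app a0 a0)))))))))) e26 (by decide +kernel)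

def c21 : List Nat := [0, 2, 2, 2, 0, 2, 0, 2, 0, 2, 2, 0, 2, 1, 2, 2]

theorem a21 : SW io h (w 5) c21 :=
  ctx.cmp (nat_lit 410) e26 (SW.app a1 (SW.app a0 (SW.app a0 (SW.app a1 (SW.app a0 (SW.app a0 (SW.app a1 (SW.app a0 (SW.app a1 (SW.app a1 a1)))))))))) e26 (by decide +kernel)

theorem e27 : EW io (s 6) h (w 2) [4, 2, 4, 1, 2, 2, 4, 3, 4, 1] [0, 2, 0, 2, 2, 2, 0, 4, 2, 0, 4, 2, 4, 2, 2, 0, 2, 2, 0, 3] (w 5) :=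
  ctx.tri [3] (nat_lit 6) (nat_lit 494) b17 (SW.app a0 (SW.app a0 (SW.app a0 (SW.app a0 (SW.app a1 (SW.app a1 (SW.app a0 (SW.app a1 (SW.app a0 (SW.app a0 (SW.app a1 a0))))))))))) e26 r3 (by decide +kernel)

theorem e28 : EW io (s 6) h (w 2) [4, 0, 3, 4, 3, 4, 1] [4, 2, 0, 4, 2, 2, 0, 2, 2, 2, 0, 2, 0, 3, 3, 0, 2, 0, 3, 3] (w 5) :=
  ctx.tri [1, 3, 0] (nat_lit 46) (nat_lit 462) e16 (SW.app a2 a6) e27 r3 (by decide +kernel)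

def c22 : List Nat := [0, 3, 3, 4, 2, 2, 4, 3, 4, 3, 0, 3, 1, 2, 2, 0, 2, 0, 3]

theorem a22 : SW io h (w 5) c22 :=
  ctx.cmp (nat_lit 462) e28 (SW.app a6 (SW.app a5 a2)) e27 (by decide +kernel)

theorem e29 : EW io (s 6) h (w 4) [0, 3, 3, 4, 2, 4, 1] [0, 3, 4, 2, 2, 2, 4, 2, 0, 4, 2, 0, 3, 3, 4, 3, 3, 0, 3, 0, 3] (w 5) :=
  ctx.tri [3] (nat_lit 6) (nat_lit 271) b14 (SW.app a3 (SW.app a6 (SW.app a4 (SW.app a5 a2)))) e27 r3 (by decide +kernel)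

theorem b12 : EW io (s 6) h (w 4) [0, 0] [1, 1, 5, 2, 1, 5] (w 1) :=
  ctx.back tinv e12 (by decide +kernel)

theorem e30 : EW io (s 6) h (w 4) [3, 4] [4, 2, 2, 0, 2, 0, 2, 2, 0, 2, 2, 0, 3, 0, 2, 2, 2, 0, 2] (w 5) :=
  ctx.tri [3] (nat_lit 6) (nat_lit 6) b12 (SW.app a0 (SW.app a1 (SW.app a0 (SW.app a1 (SW.app a0 (SW.app a0 (SW.app a1 a1))))))) e26 r3 (by decide +kernel)

theorem b27 : EW io (s 6) h (w 5) [2, 1, 3, 3, 1, 3, 3, 5, 3, 5, 1, 3, 5, 1, 3, 3, 3, 1, 3, 1, 0, 0] [1, 1, 0, 5, 2, 5, 3, 3, 0, 5, 3, 5] (w 2) :=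
  ctx.back tinv e27 (by decide +kernel)

theorem e31 : EW io (s 6) h (w 5) [1, 2, 1, 3, 3, 3, 4, 1] [2, 0, 2, 0, 2, 2, 0, 3, 3, 0, 3, 4, 3, 0, 4, 2, 2, 2, 0, 2, 4, 2] (w 5) :=
  ctx.tri [] (nat_lit 0) (nat_lit 320) b27 (SW.app a4 (SW.app a5 (SW.app a2 a3))) e27 r0 (by decide +kernel)

theorem e32 : EW io (s 6) h (w 5) [2, 2, 4, 3, 4, 1, 1] [4, 2, 2, 0, 4, 2, 0, 2, 2, 2, 1, 4, 2, 4, 3, 3, 4, 3, 0, 4] (w 5) :=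
  ctx.tri [] (nat_lit 2) (nat_lit 367) b27 (SW.app a6 (SW.app a4 (SW.app a4 a4))) e27 r3 (by decide +kernel)

theorem e33 : EW io (s 6) h (w 5) [3, 4, 3, 1, 3, 3, 3, 4] [0, 2, 0, 2, 4, 2, 2, 4, 2, 4, 2, 1, 2, 2, 4, 2, 2, 0, 2] (w 5) :=
  ctx.tri [1, 2, 0, 1, 2, 0] (nat_lit 311) (nat_lit 934) b27 (SW.app a2 (SW.app a2 (SW.app a6 a4))) e27 r3 (by decide +kernel)

theorem e34 : EW io (s 6) h (w 5) [0] [0, 3, 4, 3, 4, 2, 0, 2, 2, 4, 2, 0, 2, 2, 4, 2, 2, 4, 2, 2, 0] (w 5) :=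
  ctx.tri [] (nat_lit 2) (nat_lit 1) e31 (SW.app a21 a21) e33 r3 (by decide +kernel)

theorem b34 : EW io (s 6) h (w 5) [1, 3, 3, 5, 3, 3, 5, 3, 3, 1, 3, 5, 3, 3, 1, 3, 5, 2, 5, 2, 1, 0, 0] [1, 1, 1] (w 5) :=
  ctx.back tinv e34 (by decide +kernel)

theorem e35 : EW io (s 6) h (w 5) [4, 3, 4, 3, 4, 1] [3, 0, 2, 2, 2, 0, 2, 2, 0, 2, 0, 3, 3, 0, 2, 0, 2, 0, 2, 2] (w 5) :=
  ctx.tri [] (nat_lit 1) (nat_lit 463) b34 a22 b34 r1 (by decide +kernel)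

theorem e36 : EW io (s 6) h (w 3) [0, 3, 4] [] (w 6) :=
  EW.defn _ _

def c23 : List Nat := [2, 2, 0, 2, 0, 2, 2, 2, 0, 2, 2, 0, 3, 0, 2, 0, 2, 0, 3, 0, 3]

theorem a23 : SW io h (w 6) c23 :=
  ctx.cmp (nat_lit 7) e36 (SW.app a18 (SW.app a11 (SW.app a7 (SW.app a8 (SW.app a8 a10))))) e36 (by decide +kernel)

def c24 : List Nat := [0, 3, 0, 2, 2, 0, 3, 0, 3]

theorem a24 : SW io h (w 6) c24 :=
  ctx.cmp (nat_lit 7) e36 (SW.app a8 (SW.app a18 (SW.app a9 (SW.app a9 (SW.app a8 a18))))) e36 (by decide +kernel)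

def c25 : List Nat := [3, 4, 2, 2, 4, 2, 2, 2, 0, 3, 0, 2, 4, 2, 1, 3, 4, 3, 3, 0, 3, 3]

theorem a25 : SW io h (w 6) c25 :=
  ctx.cmp (nat_lit 7) e36 (SW.app a9 (SW.app a8 (SW.app a7 a8))) e36 (by decide +kernel)

theorem e37 : EW io (s 6) h (w 2) [4, 3, 4] [0, 0, 4] (w 6) :=
  ctx.tri [3] (nat_lit 6) (nat_lit 172) e11 a10 e36 r3 (by decide +kernel)

theorem e38 : EW io (s 6) h (w 2) [4, 0, 3, 4] [0, 3, 0, 3, 0, 3, 0, 4, 2, 0, 3, 3, 0, 2, 2, 0, 3] (w 6) :=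
  ctx.tri [] (nat_lit 0) (nat_lit 173) e16 (SW.app a2 (SW.app a2 (SW.app a3 a4))) e37 r0 (by decide +kernel)

theorem e39 : EW io (s 6) h (w 2) [4, 0, 3, 4] [0, 3, 0, 3, 4, 3, 3, 4, 2, 4, 2, 1, 3, 3, 4, 2] (w 6) :=
  ctx.tri [3] (nat_lit 6) (nat_lit 173) e7 a6 e38 r3 (by decide +kernel)

def c26 : List Nat := [4, 2, 4, 3, 4]

theorem a26 : SW io h (w 6) c26 :=
  ctx.cmp (nat_lit 173) e39 (SW.nil _) e38 (by decide +kernel)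

theorem e40 : EW io (s 6) h (w 2) [4, 2, 4, 3, 0, 3, 4, 1] [0, 2, 0, 2, 1, 2, 4, 2, 2, 2, 4, 3, 4, 2, 2, 2, 0, 2, 2, 0, 4, 2] (w 6) :=
  ctx.tri [1, 3, 0, 3] (nat_lit 48) (nat_lit 1099) e16 (SW.app a2 (SW.app a5 (SW.app a6 a4))) e38 r3 (by decide +kernel)

theorem e41 : EW io (s 6) h (w 4) [2, 2, 1, 3, 1, 3, 3, 3, 4] [2, 2, 0, 3, 3, 0, 2, 0, 2, 2, 0, 2, 2, 2, 1, 2, 0, 2, 0] (w 6) :=
  ctx.tri [] (nat_lit 2) (nat_lit 949) b21 (SW.app a3 (SW.app a3 a4)) e38 r3 (by decide +kernel)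

theorem e42 : EW io (s 6) h (w 4) [2, 1, 3, 1, 3, 3, 4] [2, 2, 0, 3, 0, 3, 3, 4, 2, 2, 2, 0, 3, 3, 1, 2, 4, 2, 4, 2] (w 6) :=
  ctx.tri [1, 2, 0] (nat_lit 47) (nat_lit 1031) b21 (SW.app a4 (SW.app a2 (SW.app a2 a6))) e40 r3 (by decide +kernel)

theorem e43 : EW io (s 6) h (w 4) [3, 4, 2, 2, 4, 1] [0, 2, 0, 2, 0, 2, 0, 2, 2, 0, 3, 3, 1, 2, 2, 2, 4, 3, 4] (w 6) :=
  ctx.tri [1, 2, 0, 3, 3] (nat_lit 389) (nat_lit 796) b14 (SW.app a3 (SW.app a5 (SW.app a6 a4))) e37 r3 (by decide +kernel)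

theorem e44 : EW io (s 6) h (w 4) [4, 1] [3, 0, 3, 3, 0, 3, 0, 2, 0, 2, 0, 3, 3, 0] (w 6) :=
  ctx.tri [] (nat_lit 1) (nat_lit 44) b22 (SW.app a10 (SW.app a11 (SW.app a18 (SW.app a8 a8)))) e36 r1 (by decide +kernel)

theorem e45 : EW io (s 6) h (w 4) [4, 3, 4, 1, 1] [3, 0, 3, 3, 0, 3, 0, 4, 2, 0, 2, 0, 2, 2, 2, 0, 3, 0, 2, 0] (w 6) :=
  ctx.tri [3] (nat_lit 6) (nat_lit 221) b22 (SW.app a7 (SW.app a18 (SW.app a9 (SW.app a18 a18)))) e36 r3 (by decide +kernel)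

theorem e46 : EW io (s 6) h (w 5) [0, 2, 1, 3, 3, 3, 4, 1] [0, 2, 0, 2, 4, 2, 0, 2, 2, 0, 3, 3, 0, 2, 2, 2, 4, 3, 0, 3] (w 6) :=
  ctx.tri [] (nat_lit 1) (nat_lit 134) b27 (SW.app a3 (SW.app a2 (SW.app a4 (SW.app a5 a6)))) e40 r1 (by decide +kernel)

theorem e47 : EW io (s 6) h (w 5) [1, 2, 1, 3, 3, 3, 4] [2, 4, 3, 4, 3, 0, 3, 0, 2, 2, 0, 2, 2, 1, 3, 3, 4, 3, 4] (w 6) :=
  ctx.tri [] (nat_lit 4) (nat_lit 103) b27 (SW.app a6 (SW.app a4 a5)) e40 r2 (by decide +kernel)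

theorem e48 : EW io (s 6) h (w 5) [1, 3, 4] [0, 4, 2, 0, 4, 2, 2, 2, 0, 3, 1, 3, 4] (w 6) :=
  ctx.tri [3] (nat_lit 6) (nat_lit 83) e34 (SW.app a20 (SW.app a22 a20)) e47 r3 (by decide +kernel)

theorem e49 : EW io (s 6) h (w 5) [4, 0, 2, 1, 3, 3, 3, 4, 1] [4, 2, 0, 2, 2, 4, 2, 2, 2, 0, 3, 0, 4, 2, 4, 2, 4, 2, 0, 2, 2] (w 6) :=
  ctx.tri [3] (nat_lit 6) (nat_lit 608) b27 (SW.app a5 (SW.app a2 (SW.app a2 a2))) e40 r3 (by decide +kernel)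

theorem e50 : EW io (s 6) h (w 5) [2, 0, 3, 4, 3, 3, 4, 1] [2, 0, 2, 2, 4, 2, 4, 2, 2, 2, 1, 3, 3, 4, 2, 0, 2, 4, 2, 0, 4] (w 6) :=
  ctx.tri [2] (nat_lit 13) (nat_lit 877) b27 (SW.app a3 (SW.app a2 (SW.app a5 a4))) e40 r3 (by decide +kernel)

theorem b44 : EW io (s 6) h (w 6) [1, 2, 2, 1, 3, 1, 3, 1, 2, 1, 2, 2, 1, 2, 0, 0] [1, 1, 0, 5] (w 4) :=
  ctx.back tinv e44 (by decide +kernel)

theorem e51 : EW io (s 6) h (w 6) [1] [3, 4, 3, 4, 3, 3, 0, 2, 0, 2, 1, 4, 2, 2, 2, 0, 2, 2, 4, 2, 2, 0, 3] (w 6) :=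
  ctx.tri [] (nat_lit 1) (nat_lit 4) b44 (SW.app a13 (SW.app a15 a12)) e41 r1 (by decide +kernel)

theorem e52 : EW io (s 6) h (w 6) [2, 2, 1, 3, 1, 3, 3, 3, 4] [0, 4, 3, 3, 0, 2, 2, 0, 2, 0, 3, 3, 1, 3, 3, 0, 2, 0, 3] (w 6) :=
  ctx.tri [2] (nat_lit 13) (nat_lit 949) b44 (SW.app a12 a17) e41 r3 (by decide +kernel)

theorem b41 : EW io (s 6) h (w 6) [1, 3, 1, 3, 0, 3, 3, 3, 1, 3, 3, 1, 3, 1, 2, 2, 1, 3, 3, 0, 0] [1, 1, 5, 2, 2, 2, 0, 2, 0, 3, 3] (w 4) :=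
  ctx.back tinv e41 (by decide +kernel)

theorem e53 : EW io (s 6) h (w 6) [3, 3, 3, 4, 0] [0, 3, 0, 3, 3, 0, 2, 1, 2, 2, 4, 2, 2, 2, 4, 3, 4, 2, 2, 0, 4] (w 6) :=
  ctx.tri [3] (nat_lit 6) (nat_lit 116) b41 (SW.app a16 (SW.app a17 (SW.app a14 a13))) e45 r3 (by decide +kernel)

theorem b37 : EW io (s 6) h (w 6) [5, 1, 1, 0, 0] [1, 1, 5, 2, 5] (w 2) :=
  ctx.back tinv e37 (by decide +kernel)

theorem e54 : EW io (s 6) h (w 6) [4, 1] [0, 3, 0, 3, 3, 0, 3, 3, 0, 3, 3, 1, 3, 3, 4] (w 6) :=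
  ctx.tri [] (nat_lit 1) (nat_lit 44) b37 (SW.app a3 (SW.app a3 a4)) e38 r1 (by decide +kernel)

theorem e55 : EW io (s 6) h (w 6) [4, 3, 0, 3, 4, 1] [4, 3, 3, 4, 3, 4, 3, 3, 0, 3, 0, 4, 3, 4, 3, 4, 3, 4, 3, 0] (w 6) :=
  ctx.tri [1, 3, 0, 3] (nat_lit 48) (nat_lit 15) b37 (SW.app a2 (SW.app a3 (SW.app a4 a5))) e40 r3 (by decide +kernel)

theorem b38 : EW io (s 6) h (w 6) [2, 1, 3, 3, 1, 2, 2, 1, 3, 5, 1, 2, 1, 2, 1, 2, 1, 0, 0] [1, 1, 5, 2, 1, 5] (w 2) :=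
  ctx.back tinv e38 (by decide +kernel)

theorem e56 : EW io (s 6) h (w 6) [4, 1, 3, 3, 3, 4] [2, 4, 3, 0, 3, 0, 4, 3, 3, 4, 3, 3, 0, 3, 3, 0, 4, 3, 0, 4] (w 6) :=
  ctx.tri [3] (nat_lit 6) (nat_lit 110) b38 (SW.app a3 (SW.app a5 (SW.app a2 a5))) e40 r3 (by decide +kernel)

theorem b36 : EW io (s 6) h (w 6) [0, 0] [1, 1, 5, 2, 1] (w 3) :=
  ctx.back tinv e36 (by decide +kernel)

theorem e57 : EW io (s 6) h (w 6) [1, 2, 4, 1] [4, 3, 3, 0, 3, 3, 0, 3, 0, 2, 0, 2, 0, 3, 3, 0] (w 6) :=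
  ctx.tri [1, 2, 0] (nat_lit 47) (nat_lit 47) b36 (SW.app a18 (SW.app a8 a8)) e36 r3 (by decide +kernel)

theorem b45 : EW io (s 6) h (w 6) [1, 3, 1, 2, 1, 3, 3, 3, 1, 3, 1, 3, 5, 1, 2, 1, 2, 2, 1, 2, 0, 0] [1, 1, 0, 0, 5, 2, 5] (w 4) :=
  ctx.back tinv e45 (by decide +kernel)

theorem e58 : EW io (s 6) h (w 6) [0, 2, 4, 1, 3, 3, 3, 4] [2, 0, 4, 3, 3, 0, 3, 3, 0, 3, 3, 4, 2, 0, 3, 0, 3, 0] (w 6) :=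
  ctx.tri [1, 3, 0] (nat_lit 46) (nat_lit 213) b45 (SW.app a15 (SW.app a13 (SW.app a15 a15))) e42 r3 (by decide +kernel)

theorem e59 : EW io (s 6) h (w 6) [4, 2, 4, 2, 4, 2, 4, 1] [3, 4, 3, 3, 4, 3, 3, 0, 3, 4, 3, 4, 3, 0, 3, 4, 2, 4, 2] (w 6) :=
  ctx.tri [1, 2, 0, 3, 3] (nat_lit 389) (nat_lit 454) b45 (SW.app a15 (SW.app a14 (SW.app a15 a16))) e45 r3 (by decide +kernel)

theorem e60 : EW io (s 6) h (w 4) [4, 3, 4, 0] [] (w 7) :=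
  EW.defn _ _

def c27 : List Nat := [0, 2, 0, 4, 2, 1, 4, 3, 3, 4, 2, 4, 2, 4, 3, 4, 3]

theorem a27 : SW io h (w 7) c27 :=
  ctx.cmp (nat_lit 322) e60 (SW.app a17 (SW.app a16 (SW.app a12 (SW.app a15 (SW.app a13 a15))))) e60 (by decide +kernel)

def c28 : List Nat := [0, 2, 0, 2, 0, 3, 0, 3, 0, 2, 0, 2, 0, 3, 0, 3]

theorem a28 : SW io h (w 7) c28 :=
  ctx.cmp (nat_lit 322) e60 (SW.app a15 (SW.app a12 (SW.app a12 (SW.app a13 a14)))) e60 (by decide +kernel)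

theorem e61 : EW io (s 6) h (w 4) [2, 4, 3, 3, 4, 3, 4, 1, 1] [2, 0, 3, 4, 3, 4, 3, 0, 4, 3, 3, 1, 3, 3, 4, 0, 3, 4, 3, 3, 0] (w 7) :=
  ctx.tri [3] (nat_lit 6) (nat_lit 504) e24 (SW.app a13 (SW.app a14 (SW.app a13 (SW.app a17 a12)))) e60 r3 (by decide +kernel)

def c29 : List Nat := [2, 4, 3, 0, 4, 2, 2, 4, 3, 3, 0, 4, 2, 4, 3, 0]

theorem a29 : SW io h (w 7) c29 :=
  ctx.cmp (nat_lit 504) e61 (SW.app a12 (SW.app a14 (SW.app a15 (SW.app a14 a16)))) e60 (by decide +kernel)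

theorem e62 : EW io (s 6) h (w 4) [4, 0, 3, 4, 3, 4, 1] [0, 4, 3, 0, 2, 0, 2, 2, 0, 2, 0, 3, 3, 1, 2] (w 7) :=
  ctx.tri [1, 3, 0] (nat_lit 46) (nat_lit 462) e25 (SW.app a12 (SW.app a17 (SW.app a13 (SW.app a14 a15)))) e60 r3 (by decide +kernel)

def c30 : List Nat := [3, 4, 3, 0, 2, 0, 2, 2, 0, 2, 2, 1, 2, 4, 2, 0, 3, 4, 3, 3, 0, 3]

theorem a30 : SW io h (w 7) c30 :=
  ctx.cmp (nat_lit 462) e62 (SW.app a12 (SW.app a13 (SW.app a14 a17))) e60 (by decide +kernel)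

theorem b30 : EW io (s 6) h (w 5) [3, 1, 3, 3, 3, 1, 2, 1, 3, 3, 1, 3, 3, 1, 3, 1, 3, 3, 5, 0, 0] [1, 1, 5, 2] (w 4) :=
  ctx.back tinv e30 (by decide +kernel)

theorem e63 : EW io (s 6) h (w 5) [4, 3, 3, 4, 3, 3, 4, 3, 4, 1] [0, 2, 2, 0, 2, 0, 3, 0, 2, 2, 0, 2, 2, 0, 2, 0, 3, 4, 3, 3, 0] (w 7) :=
  ctx.tri [1, 2, 0, 3, 3] (nat_lit 389) (nat_lit 254) b30 (SW.app a16 (SW.app a17 a14)) e60 r3 (by decide +kernel)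

theorem e64 : EW io (s 6) h (w 6) [2, 0, 3, 3, 3, 4, 1] [4, 2, 0, 3, 0, 3, 0, 3, 0, 2, 0, 2, 2, 1, 2, 0, 2, 0, 2, 2, 2] (w 7) :=
  ctx.tri [1, 3, 0] (nat_lit 46) (nat_lit 321) b44 (SW.app a12 (SW.app a14 (SW.app a12 a15))) e60 r3 (by decide +kernel)

theorem e65 : EW io (s 6) h (w 6) [0, 3, 3, 4] [2, 0, 2, 0, 2, 2, 2, 0, 3, 0, 3, 0, 2, 1, 2, 2, 0, 2, 0] (w 7) :=
  ctx.tri [] (nat_lit 1) (nat_lit 174) b45 (SW.nil _) e60 r1 (by decide +kernel)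

theorem e66 : EW io (s 6) h (w 6) [2, 4, 3, 3, 4] [2, 0, 3, 4, 3, 3, 4, 3, 3, 0, 3, 1, 4, 2, 2, 2, 0, 3, 3] (w 7) :=
  ctx.tri [3] (nat_lit 6) (nat_lit 706) b45 (SW.app a12 (SW.app a14 (SW.app a17 a14))) e60 r3 (by decide +kernel)

theorem b65 : EW io (s 6) h (w 7) [1, 3, 1, 3, 3, 0, 3, 1, 2, 1, 2, 1, 3, 3, 3, 1, 3, 1, 3, 0, 0] [1, 1, 5, 2, 2, 1] (w 6) :=
  ctx.back tinv e65 (by decide +kernel)

theorem e67 : EW io (s 6) h (w 7) [1] [3, 3, 0, 2, 2, 2, 0, 3, 3, 1, 4, 2, 2, 4, 2, 2, 2, 0, 2, 2, 4] (w 7) :=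
  ctx.tri [] (nat_lit 1) (nat_lit 4) b65 (SW.app a23 (SW.app a25 (SW.app a24 a25))) e64 r1 (by decide +kernel)

theorem e68 : EW io (s 6) h (w 7) [3, 3, 3, 4, 1, 1] [0, 3, 0, 3, 0, 4, 2, 0, 2, 2, 4, 2, 0, 3, 4, 2, 2, 4] (w 7) :=
  ctx.tri [1, 2, 0, 2, 2] (nat_lit 122) (nat_lit 105) b65 (SW.app a25 (SW.app a24 a26)) e64 r3 (by decide +kernel)

theorem e69 : EW io (s 6) h (w 6) [0, 2, 4] [] (w 8) :=
  EW.defn _ _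

def c31 : List Nat := [2, 0, 3, 3, 0, 2, 0, 2, 2, 0, 3, 3, 0, 2, 2, 0, 2, 0, 3, 3, 0, 2, 2]

theorem a31 : SW io h (w 8) c31 :=
  ctx.cmp (nat_lit 8) e69 (SW.app a25 (SW.app a25 (SW.app a23 a23))) e69 (by decide +kernel)

def c32 : List Nat := [2, 0, 3, 3, 0, 2, 0, 2, 0]

theorem a32 : SW io h (w 8) c32 :=
  ctx.cmp (nat_lit 8) e69 (SW.app a26 (SW.app a24 (SW.app a24 a26))) e69 (by decide +kernel)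

def c33 : List Nat := [0, 4, 3, 1, 2, 4, 2, 4, 3, 4, 3, 4, 2, 4, 2, 0, 3]

theorem a33 : SW io h (w 8) c33 :=
  ctx.cmp (nat_lit 8) e69 (SW.app a25 (SW.app a24 (SW.app a23 (SW.app a25 (SW.app a23 a23))))) e69 (by decide +kernel)

theorem e70 : EW io (s 6) h (w 6) [0, 2, 4] [0, 3, 0, 3, 0, 2, 0, 2, 0, 4, 3, 0, 3, 0, 2, 0, 2] (w 8) :=
  ctx.tri [2] (nat_lit 13) (nat_lit 8) e51 a23 e69 r3 (by decide +kernel)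

def c34 : List Nat := [0, 3, 0, 3, 0, 2, 0, 2, 0, 4, 3, 0, 3, 0, 2, 0, 2]

theorem a34 : SW io h (w 8) c34 :=
  ctx.cmp (nat_lit 8) e70 (SW.nil _) e69 (by decide +kernel)

theorem e71 : EW io (s 6) h (w 6) [4, 3, 1, 2, 1, 3, 1, 3, 3, 4] [0, 4, 3, 4, 3, 4, 3, 0, 4, 2, 2, 0, 2, 2, 1, 3, 3, 0, 4] (w 8) :=
  ctx.tri [3, 1, 3, 0, 2, 1, 2, 0, 1, 2, 0] (nat_lit 35) (nat_lit 1287) e53 (SW.app a25 a23) e69 r3 (by decide +kernel)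

def c35 : List Nat := [0, 2, 0, 2, 2, 2, 4, 2, 0, 2, 0, 2, 4, 2, 0, 3, 4]

theorem a35 : SW io h (w 8) c35 :=
  ctx.cmp (nat_lit 1287) e71 (SW.app a25 (SW.app a23 a26)) e69 (by decide +kernel)

theorem e72 : EW io (s 6) h (w 6) [3, 0, 2, 1, 3, 3, 3, 4, 1] [0, 3, 4, 3, 0, 3, 3, 4, 2, 0, 3, 3, 4, 3, 3, 4, 3, 4, 3, 0, 3] (w 8) :=
  ctx.tri [1, 3, 0, 3, 1, 2, 0, 2, 2] (nat_lit 70) (nat_lit 965) e56 (SW.app a25 (SW.app a23 (SW.app a23 a26))) e69 r3 (by decide +kernel)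

def c36 : List Nat := [2, 0, 2, 4, 2, 4, 2, 1, 2, 2, 2, 4, 2, 4, 2, 0, 3, 3, 4, 3, 0, 3]

theorem a36 : SW io h (w 8) c36 :=
  ctx.cmp (nat_lit 965) e72 (SW.app a23 a23) e69 (by decide +kernel)

theorem b69 : EW io (s 6) h (w 8) [0, 0] [1, 1, 5, 3, 1] (w 6) :=
  ctx.back tinv e69 (by decide +kernel)

theorem e73 : EW io (s 6) h (w 8) [2, 0, 2, 1, 2, 2, 4] [2, 0, 2, 2, 2, 0, 3, 4, 3, 3, 0, 3, 1, 3] (w 8) :=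
  ctx.tri [2, 1, 2, 0, 2, 2] (nat_lit 224) (nat_lit 224) b69 (SW.app a25 (SW.app a23 (SW.app a23 a26))) e69 r3 (by decide +kernel)

theorem b11 : EW io (s 6) h (w 3) [1, 0, 0] [1, 1, 0, 0, 5] (w 2) :=
  ctx.back tinv e11 (by decide +kernel)

theorem b26 : EW io (s 6) h (w 5) [0, 0] [1, 1, 5, 3, 5, 3, 5] (w 1) :=
  ctx.back tinv e26 (by decide +kernel)

theorem b29 : EW io (s 6) h (w 5) [2, 1, 2, 1, 2, 2, 5, 2, 2, 1, 3, 5, 1, 3, 5, 3, 3, 3, 5, 2, 1, 0, 0] [1, 1, 0, 5, 3, 5, 2, 2, 1] (w 4) :=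
  ctx.back tinv e29 (by decide +kernel)

theorem b40 : EW io (s 6) h (w 6) [3, 5, 1, 3, 3, 1, 3, 3, 3, 5, 2, 5, 3, 3, 3, 5, 3, 0, 3, 1, 3, 1, 0, 0] [1, 1, 0, 5, 2, 1, 2, 5, 3, 5] (w 2) :=
  ctx.back tinv e40 (by decide +kernel)

theorem b47 : EW io (s 6) h (w 6) [5, 2, 5, 2, 2, 0, 3, 3, 1, 3, 3, 1, 2, 1, 2, 5, 2, 5, 3, 0, 0] [1, 1, 5, 2, 2, 2, 0, 3, 0] (w 5) :=
  ctx.back tinv e47 (by decide +kernel)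

theorem b49 : EW io (s 6) h (w 6) [3, 3, 1, 3, 5, 3, 5, 3, 5, 1, 2, 1, 3, 3, 3, 5, 3, 3, 1, 3, 5, 0, 0] [1, 1, 0, 5, 2, 2, 2, 0, 3, 1, 5] (w 5) :=
  ctx.back tinv e49 (by decide +kernel)

theorem b50 : EW io (s 6) h (w 6) [5, 1, 3, 5, 3, 1, 3, 5, 2, 2, 0, 3, 3, 3, 5, 3, 5, 3, 3, 1, 3, 0, 0] [1, 1, 0, 5, 2, 2, 5, 2, 1, 3] (w 5) :=
  ctx.back tinv e50 (by decide +kernel)

theorem b46 : EW io (s 6) h (w 6) [2, 1, 2, 5, 3, 3, 3, 1, 2, 2, 1, 3, 3, 1, 3, 5, 3, 1, 3, 1, 0, 0] [1, 1, 0, 5, 2, 2, 2, 0, 3, 1] (w 5) :=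
  ctx.back tinv e46 (by decide +kernel)

theorem b43 : EW io (s 6) h (w 6) [5, 2, 5, 3, 3, 3, 0, 2, 2, 1, 3, 3, 1, 3, 1, 3, 1, 3, 1, 0, 0] [1, 1, 0, 5, 3, 3, 5, 2] (w 4) :=
  ctx.back tinv e43 (by decide +kernel)

theorem b52 : EW io (s 6) h (w 6) [2, 1, 3, 1, 2, 2, 0, 2, 2, 1, 3, 1, 3, 3, 1, 2, 2, 5, 1, 0, 0] [1, 1, 5, 2, 2, 2, 0, 2, 0, 3, 3] (w 6) :=
  ctx.back tinv e52 (by decide +kernel)

theorem b48 : EW io (s 6) h (w 6) [5, 2, 0, 2, 1, 3, 3, 3, 5, 1, 3, 5, 1, 0, 0] [1, 1, 5, 2, 0] (w 5) :=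
  ctx.back tinv e48 (by decide +kernel)

theorem b58 : EW io (s 6) h (w 6) [1, 2, 1, 2, 1, 3, 5, 2, 2, 1, 2, 2, 1, 2, 2, 5, 1, 3, 0, 0] [1, 1, 5, 2, 2, 2, 0, 5, 3, 1] (w 6) :=
  ctx.back tinv e58 (by decide +kernel)

theorem b42 : EW io (s 6) h (w 6) [3, 5, 3, 5, 3, 0, 2, 2, 1, 3, 3, 3, 5, 2, 2, 1, 2, 1, 3, 3, 0, 0] [1, 1, 5, 2, 2, 0, 2, 0, 3] (w 4) :=
  ctx.back tinv e42 (by decide +kernel)

theorem b59 : EW io (s 6) h (w 6) [3, 5, 3, 5, 2, 1, 2, 5, 2, 5, 2, 1, 2, 2, 5, 2, 2, 5, 2, 0, 0] [1, 1, 0, 5, 3, 5, 3, 5, 3, 5] (w 6) :=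
  ctx.back tinv e59 (by decide +kernel)

theorem b64 : EW io (s 6) h (w 7) [3, 3, 3, 1, 3, 1, 3, 0, 3, 3, 1, 3, 1, 2, 1, 2, 1, 2, 1, 3, 5, 0, 0] [1, 1, 0, 5, 2, 2, 2, 1, 3] (w 6) :=
  ctx.back tinv e64 (by decide +kernel)

theorem b60 : EW io (s 6) h (w 7) [0, 0] [1, 1, 1, 5, 2, 5] (w 4) :=
  ctx.back tinv e60 (by decide +kernel)

theorem b63 : EW io (s 6) h (w 7) [1, 2, 2, 5, 2, 1, 3, 1, 3, 3, 1, 3, 3, 1, 2, 1, 3, 1, 3, 3, 1, 0, 0] [1, 1, 0, 5, 2, 5, 2, 2, 5, 2, 2, 5] (w 5) :=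
  ctx.back tinv e63 (by decide +kernel)

theorem b66 : EW io (s 6) h (w 7) [2, 2, 1, 3, 3, 3, 5, 0, 2, 1, 2, 2, 5, 2, 2, 5, 2, 1, 3, 0, 0] [1, 1, 5, 2, 2, 5, 3] (w 6) :=
  ctx.back tinv e66 (by decide +kernel)


end Cfsg.Agent.DCE.HN
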