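import Cfsg.Agent.DCE.HN.Base
import Cfsg.Agent.Comp.Extra
import Cfsg.Agent.Comp.Mat2
import Cfsg.Agent.SchurG.HS.Main

set_option autoImplicit false
set_option maxRecDepth 100000

namespace Cfsg.Agent.DCE.HN
open Cfsg.Agent.Comp Cfsg.Agent.DCE

def twK : List (List Nat) :=
  [[2, 4, 2, 2, 4, 2, 4, 2, 0, 3, 4, 3, 4, 3, 4, 0, 2, 2, 2],
   [0, 4, 3, 3, 0, 3, 3, 4, 2, 0, 3, 3, 4, 2, 2, 0, 2, 0, 2, 2, 0, 4],
   [3, 4, 2, 2, 4, 2, 2, 2, 0, 4, 3, 3, 4, 2, 2, 0, 2, 0, 3, 3, 0],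
   [0, 2, 2, 0, 2, 4, 3, 3, 0, 3, 3, 4, 2, 2, 4, 0, 2, 2, 2, 4, 3],
   [0, 3, 0, 2, 2, 2, 0, 3, 4, 3, 0, 3, 4, 3, 3, 0, 2, 2, 2, 0],
   [4, 2, 4, 3, 0, 4, 3, 4, 3, 3, 0, 4, 3, 4, 2, 0],
   [3, 0, 2, 0, 2, 0, 2, 0, 2, 4, 2, 4, 2, 0, 2, 0, 2, 2],
   [0, 0]]

def RK : List (List Nat) :=
  [[0, 0, 7],
   [1, 1, 7],
   [2, 2, 7],
   [3, 3, 7],
   [4, 4, 7],
   [5, 5],
   [6, 6],
   [0, 1, 0, 1, 0, 1],
   [0, 2, 0, 2],
   [1, 2, 1, 2, 1, 2, 7],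
   [1, 3, 1, 3],
   [2, 3, 2, 3],
   [0, 3, 0, 3, 0, 3],
   [0, 1, 3, 0, 4, 0, 2, 4, 7],
   [0, 4, 0, 4, 0, 4, 0, 4],
   [0, 4, 1, 4, 0, 4, 3, 4],
   [1, 4, 2, 4, 1, 4, 2, 4],
   [3, 4, 3, 4, 3, 4, 3, 4],
   [0, 1, 2, 0, 1, 4, 1, 0, 3, 4],
   [1, 5, 1, 5, 7],
   [3, 5, 3, 5, 7],
   [0, 1, 0, 5, 0, 5, 7],
   [1, 2, 1, 5, 2, 5],
   [4, 5, 4, 5, 4, 5, 4, 5, 4, 5, 4, 5, 7],
   [1, 2, 4, 2, 4, 2, 1, 4, 3, 4, 7],
   [0, 4, 5, 1, 4, 2, 4, 5, 4, 0, 4, 5, 4],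
   [1, 2, 1, 3, 5, 2, 5, 3, 7],
   [0, 1, 0, 2, 1, 4, 5, 0, 5, 3, 1, 4],
   [1, 4, 1, 4, 5, 4, 1, 5, 4, 1, 5, 4, 5, 1, 4, 5, 4],
   [2, 6, 2, 6, 7],
   [5, 6, 5, 6, 5, 6],
   [0, 1, 0, 6, 0, 1, 0, 6, 7],
   [1, 6, 3, 6, 1, 6, 3, 6],
   [2, 4, 3, 4, 2, 4, 3, 4],
   [0, 4, 1, 3, 4, 6, 1, 5, 6, 7],
   [0, 1, 0, 6, 1, 0, 1, 6],
   [0, 1, 0, 6, 5, 0, 5, 6, 7],
   [1, 3, 6, 1, 3, 6, 3, 1, 6],
   [0, 1, 2, 5, 4, 1, 0, 3, 4, 5],
   [0, 6, 1, 6, 0, 6, 1, 6],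
   [0, 3, 0, 6, 4, 6, 0, 3, 0, 6, 4, 6, 7],
   [1, 3, 4, 2, 3, 4, 1, 4, 3, 4, 7],
   [2, 4, 3, 4, 6, 4, 3, 4, 6, 4, 3, 4, 6],
   [1, 3, 4, 2, 4, 6, 1, 4, 6, 2, 6, 4, 3, 6, 7],
   [0, 4, 1, 3, 4, 6, 5, 1, 6, 7],
   [0, 1, 4, 0, 4, 1, 0, 4, 2, 4],
   [4, 5, 4, 6, 4, 5, 4, 6, 4, 5, 4, 6, 4, 5, 4, 6],
   [0, 3, 4, 5, 6, 1, 4, 5, 6, 4, 1, 6, 0, 5, 4, 6, 0, 5],
   [0, 3, 6, 1, 6, 3, 0, 6, 1, 6, 7],
   [0, 3, 2, 4, 5, 3, 4, 6, 4, 3, 5, 4, 6, 0, 6, 3, 4, 6, 4, 5, 7]]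

theorem satW (D : List (List ℕ))
    (hD : band (ltB 1408 bs) (band ((D.map fun w => (w, ([] : List ℕ))).all fun e => ltB 6 e.1 && ltB 6 e.2)
      (eqsZ 1408 bs T (D.map fun w => (w, ([] : List ℕ))))) = true) : Sat h D :=
  sat_of_eqs (rep.eqB cardH.2.2 base hD)

theorem ksat0 : Sat (fun x => ev h (twK.getD x [])) [[0, 0, 7], [1, 1, 7], [2, 2, 7], [3, 3, 7], [4, 4, 7], [5, 5], [6, 6], [0, 1, 0, 1, 0, 1], [0, 2, 0, 2], [1, 2, 1, 2, 1, 2, 7], [1, 3, 1, 3], [2, 3, 2, 3], [0, 3, 0, 3, 0, 3], [0, 1, 3, 0, 4, 0, 2, 4, 7], [0, 4, 0, 4, 0, 4, 0, 4], [0, 4, 1, 4, 0, 4, 3, 4], [1, 4, 2, 4, 1, 4, 2, 4], [3, 4, 3, 4, 3, 4, 3, 4], [0, 1, 2, 0, 1, 4, 1, 0, 3, 4], [1, 5, 1, 5, 7], [3, 5, 3, 5, 7], [0, 1, 0, 5, 0, 5, 7]] :=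
  Sat.subst (satW _ (by decide +kernel))

theorem ksat1 : Sat (fun x => ev h (twK.getD x [])) [[1, 2, 1, 5, 2, 5], [4, 5, 4, 5, 4, 5, 4, 5, 4, 5, 4, 5, 7], [1, 2, 4, 2, 4, 2, 1, 4, 3, 4, 7], [0, 4, 5, 1, 4, 2, 4, 5, 4, 0, 4, 5, 4], [1, 2, 1, 3, 5, 2, 5, 3, 7], [0, 1, 0, 2, 1, 4, 5, 0, 5, 3, 1, 4], [1, 4, 1, 4, 5, 4, 1, 5, 4, 1, 5, 4, 5, 1, 4, 5, 4], [2, 6, 2, 6, 7], [5, 6, 5, 6, 5, 6], [0, 1, 0, 6, 0, 1, 0, 6, 7], [1, 6, 3, 6, 1, 6, 3, 6], [2, 4, 3, 4, 2, 4, 3, 4]] :=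
  Sat.subst (satW _ (by decide +kernel))

theorem ksat2 : Sat (fun x => ev h (twK.getD x [])) [[0, 4, 1, 3, 4, 6, 1, 5, 6, 7], [0, 1, 0, 6, 1, 0, 1, 6], [0, 1, 0, 6, 5, 0, 5, 6, 7], [1, 3, 6, 1, 3, 6, 3, 1, 6], [0, 1, 2, 5, 4, 1, 0, 3, 4, 5], [0, 6, 1, 6, 0, 6, 1, 6], [0, 3, 0, 6, 4, 6, 0, 3, 0, 6, 4, 6, 7], [1, 3, 4, 2, 3, 4, 1, 4, 3, 4, 7], [2, 4, 3, 4, 6, 4, 3, 4, 6, 4, 3, 4, 6], [1, 3, 4, 2, 4, 6, 1, 4, 6, 2, 6, 4, 3, 6, 7], [0, 4, 1, 3, 4, 6, 5, 1, 6, 7]] :=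
  Sat.subst (satW _ (by decide +kernel))

theorem ksat3 : Sat (fun x => ev h (twK.getD x [])) [[0, 1, 4, 0, 4, 1, 0, 4, 2, 4], [4, 5, 4, 6, 4, 5, 4, 6, 4, 5, 4, 6, 4, 5, 4, 6], [0, 3, 4, 5, 6, 1, 4, 5, 6, 4, 1, 6, 0, 5, 4, 6, 0, 5], [0, 3, 6, 1, 6, 3, 0, 6, 1, 6, 7], [0, 3, 2, 4, 5, 3, 4, 6, 4, 3, 5, 4, 6, 0, 6, 3, 4, 6, 4, 5, 7]] :=
  Sat.subst (satW _ (by decide +kernel))

theorem ksat : Sat (fun x => ev h (twK.getD x [])) RK := (Sat.append ksat0 (Sat.append ksat1 (Sat.append ksat2 ksat3)))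

/-- the subgroup `2 · HS` -/
def K : Subgroup H := gen (fun x => ev h (twK.getD x [])) 8

/-- its letters -/
noncomputable def k : ℕ → K := liftS K.subtype fun x => ev h (twK.getD x [])

theorem k_ex : ∀ x < 8, ∃ g, K.subtype g = ev h (twK.getD x []) := fun _ hx =>
  ⟨⟨_, letter_mem_gen hx⟩, rfl⟩

theorem k_val (x : ℕ) (hx : x < 8) : (k x : H) = ev h (twK.getD x []) :=
  liftS_val (ρ := K.subtype) (s := fun x => ev h (twK.getD x [])) (k_ex x hx)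

theorem k7 : (k 7 : H) = h 0 * h 0 := by
  rw [k_val 7 (by norm_num)]
  exact (show ev h [0, 0] = h 0 * h 0 by simp)

theorem x2_ne : h 0 * h 0 ≠ 1 := by
  have := rep.ne (S := pt 0) (u := [0, 0]) (v := []) (by decide +kernel)
  simpa using this

theorem cenK : Subgroup.center K = Subgroup.zpowers (k 7) ∧
    Nonempty (SchurG.HS.G ≃* K ⧸ Subgroup.center K) := by
  have := SchurG.HS.simple
  obtain ⟨h1, e, -⟩ := SchurG.HS.pres.central SchurG.HS.hR (t := k) (R' := RK)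
    (gen_liftS_top K.subtype_injective (by rw [Subgroup.range_subtype]; rfl))
    (Subgroup.mem_center_iff.mpr fun g => Subtype.ext (by
      simp only [Subgroup.coe_mul, k7]; exact Subgroup.mem_center_iff.mp cenx _))
    (sat_liftS K.subtype_injective k_ex (by decide +kernel) ksat) (by decide +kernel)
    (by decide +kernel) ⟨k 0, k 1, fun e => by
      have e2 := congrArg Subtype.val e
      rw [Subgroup.coe_mul, Subgroup.coe_mul, k_val 0 (by norm_num), k_val 1 (by norm_num),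
        ← ev_append, ← ev_append] at e2
      exact rep.ne (S := pt 0) (by decide +kernel) e2⟩
  exact ⟨h1, ⟨e⟩⟩

theorem card_cenK : Nat.card (Subgroup.center K) = 2 := by
  rw [cenK.1]
  exact card_zpowers_prime (Subtype.ext (by rw [Subgroup.coe_pow, k7]; exact x4 presH.sat))
    fun e => x2_ne (by rw [← k7, e]; rfl)

theorem cardK : Nat.card K = 88704000 := by
  obtain ⟨e⟩ := cenK.2
  rw [Subgroup.card_eq_card_quotient_mul_card_subgroup (Subgroup.center K), card_cenK,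
    ← Nat.card_congr e.toEquiv, SchurG.HS.card.2.1]

theorem indexK : K.index = 2 := index_eq_of_card (cardH.2.1.trans (by norm_num)) cardK (by norm_num)

instance : K.Normal := Subgroup.normal_of_index_eq_two indexK

/-- the signs of the letters -/
def sg0 (x : ℕ) : ℤˣ := if x < 4 then 1 else -1

/-- the sign -/
noncomputable def sg : H →* ℤˣ := (presH.univ ℤˣ sg0 (by unfold Sat; decide +kernel)).choose

theorem sg_ev {w : List ℕ} (hw : ltB 6 w = true) : sg (ev h w) = ev sg0 w :=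
  (map_ev _ sg w).trans (ev_congr fun x hx =>
    (presH.univ ℤˣ sg0 (by unfold Sat; decide +kernel)).choose_spec x (ltB_spec hw x hx))

theorem K_eq : K = sg.ker := by
  have h1 : K ≤ sg.ker := gen_le.mpr fun x hx => by
    rw [MonoidHom.mem_ker, sg_ev ((by decide +kernel : ∀ x < 8, ltB 6 (twK.getD x []) = true) x hx)]
    exact (by decide +kernel : ∀ x < 8, ev sg0 (twK.getD x []) = 1) x hx
  have h2 : sg.ker.index ≠ 1 := fun e => by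
    have : ev h [4] ∈ sg.ker := Subgroup.index_eq_one.mp e ▸ Subgroup.mem_top _
    rw [MonoidHom.mem_ker, sg_ev (by decide)] at this
    revert this; decide
  have h3 := Subgroup.relIndex_mul_index h1
  rw [indexK] at h3
  have h4 : sg.ker.index = 2 := ((Nat.dvd_prime Nat.prime_two).mp (Dvd.intro_left _ h3)).resolve_left h2
  rw [h4] at h3
  exact le_antisymm h1 (Subgroup.relIndex_eq_one.mp (by omega))

theorem memK {w : List ℕ} (hw : (ltB 6 w && ev sg0 w == 1) = true) : ev h w ∈ K := by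
  simp only [Bool.and_eq_true, beq_iff_eq] at hw
  rw [K_eq, MonoidHom.mem_ker, sg_ev hw.1, hw.2]

theorem xK : h 0 ∈ K := by simpa using memK (w := [0]) (by decide)

theorem U_le {g : H} (hg : phi g 0 = 0) : g ∈ K :=
  genW_le.mpr (by
    simp only [W0, List.forall_mem_cons]
    exact ⟨memK (by decide), memK (by decide), by simp⟩) ((stab.2 g).mpr hg)

theorem fixU {a : ℕ} (ha : a < 1408) (hf : ∀ u, phi u 0 = 0 → phi u a = a) :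
    ∃ i < 4, a = phi (h 0 ^ i) 0 := by
  have e : Nat.beq (moved 1408 11 T [2] 11 ||| moved 1408 11 T [1, 2, 0] 11 ||| seed 0 [(0, 0), (1, 0), (5, 0), (4, 0)])
    (ivl 0 1408) = true := by decide +kernel
  have h1 := congrArg (·.testBit a) (Nat.eq_of_beq_eq_true e)
  have k1 : ∀ w ∈ W0, (moved 1408 11 T w 11).testBit a = false := fun w hw => by
    rw [← Bool.not_eq_true, testBit_moved ok (by norm_num) w ha, not_not,
      ← rep.ev_eq ((by decide : ∀ w ∈ W0, ∀ x ∈ w, x < 6) w hw)]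
    exact hf _ ((stab.2 _).mp (ev_mem_genW hw))
  simp only [Nat.testBit_or, k1 [2] (by decide), k1 [1, 2, 0] (by decide), Bool.false_or,
    testBit_ivl, Nat.zero_le, zero_add, ha, and_self, decide_true] at h1
  have k2 : ∀ i b, band (ltB 6 (wpow [0] i)) (mem1 T (wpow [0] i) (pt b) (nat_lit 0)) = true →
      b = phi (h 0 ^ i) 0 := fun i b hb => by
    rw [band_eq] at hb
    rw [← ctx.pt0 hb.1 hb.2, ev_wpow, ev_single]
  have h2 := mem_seed h1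
  simp only [List.mem_cons, Prod.mk.injEq, and_true, List.not_mem_nil, or_false] at h2
  rcases h2 with rfl | rfl | rfl | rfl
  exacts [⟨0, by norm_num, k2 _ _ (by decide +kernel)⟩, ⟨1, by norm_num, k2 _ _ (by decide +kernel)⟩,
    ⟨2, by norm_num, k2 _ _ (by decide +kernel)⟩, ⟨3, by norm_num, k2 _ _ (by decide +kernel)⟩]

/-- an element that normalises the stabiliser of `0` lies in `K` -/
theorem mem_of_comm {g : H} (hg : ∀ u, phi u 0 = 0 → phi (g⁻¹ * u * g) 0 = 0) : g ∈ K := by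
  obtain ⟨i, -, e⟩ := fixU (Bd.lt (rep.bd g) (by norm_num : 0 < 1408)) fun u hu => by
    have := hg u hu
    rwa [map_mul, map_mul, map_inv, Equiv.Perm.mul_apply, Equiv.Perm.mul_apply,
      Equiv.Perm.inv_eq_iff_eq] at this
  simpa using mul_mem (pow_mem xK i) (U_le (fix_of_eq e.symm))

theorem x2_mem (N : Subgroup H) [hN : N.Normal] (h0 : N ≠ ⊥) : h 0 * h 0 ∈ N := by
  obtain ⟨e⟩ := cenK.2
  have := SchurG.HS.simple
  have := e.symm.isSimpleGroup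
  have hz : ∀ c ∈ Subgroup.center K, c = 1 ∨ c = k 7 := fun c hc => by
    have h7 : k 7 ∈ Subgroup.center K := cenK.1 ▸ Subgroup.mem_zpowers _
    obtain ⟨y, -, hy⟩ := (Nat.card_eq_two_iff' (1 : Subgroup.center K)).mp card_cenK
    by_cases c1 : c = 1
    · exact .inl c1
    · exact .inr (congrArg Subtype.val ((hy ⟨c, hc⟩ fun e => c1 (congrArg Subtype.val e)).trans
        (hy ⟨k 7, h7⟩ fun e => x2_ne (by rw [← k7, show k 7 = 1 from congrArg Subtype.val e]; rfl)).symm))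
  rcases ((hN.subgroupOf K).map _ (QuotientGroup.mk'_surjective (Subgroup.center K))).eq_bot_or_eq_top
    with h1 | h1
  · by_contra hx
    have h2 : Disjoint N K := Subgroup.disjoint_def.mpr fun {g} hg hk => by
      have : (⟨g, hk⟩ : K) ∈ Subgroup.center K := by
        rw [← QuotientGroup.eq_one_iff, ← Subgroup.mem_bot, ← h1]
        exact ⟨⟨g, hk⟩, hg, rfl⟩
      rcases hz _ this with e | e
      · exact congrArg Subtype.val e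
      · exact (hx (by rw [← k7, ← e]; exact hg)).elim
    obtain ⟨⟨g, hg⟩, hne⟩ := Subgroup.ne_bot_iff_exists_ne_one.mp h0
    refine hne (Subtype.ext (Subgroup.disjoint_def.mp h2 hg (mem_of_comm fun u hu => ?_)))
    rw [mul_assoc, ← (Subgroup.commute_of_normal_of_disjoint N K hN inferInstance h2 g u hg
      (U_le hu)).eq, inv_mul_cancel_left, hu]
  · obtain ⟨m, hm, e⟩ : (QuotientGroup.mk' (Subgroup.center K) ⟨h 0, xK⟩) ∈ _ :=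
      h1 ▸ Subgroup.mem_top _
    have hm2 : (m : H) * m ∈ N := mul_mem hm hm
    rcases hz _ (QuotientGroup.eq.mp e) with e | e
    · rwa [inv_mul_eq_one.mp e] at hm2
    · have e2 : (m : H) = h 0 * (h 0 * h 0)⁻¹ := by
        have := congrArg Subtype.val e
        rw [k7] at this
        rw [← this]; simp
      have e3 : (m : H) * m = h 0 * h 0 * ((h 0 * h 0) ^ 2)⁻¹ := by rw [e2]; group
      rwa [e3, x4 presH.sat, inv_one, mul_one] at hm2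

theorem nonsplit (L : Subgroup K) : ¬ (Subgroup.center K).IsComplement' L := by
  intro hL
  have h1 : L.index = 2 := by rw [hL.index_eq_card, card_cenK]
  have h2 : k 7 ∈ L := by
    rw [show k 7 = ⟨h 0, xK⟩ * ⟨h 0, xK⟩ from Subtype.ext k7]
    exact Subgroup.mul_self_mem_of_index_two h1 _
  exact x2_ne (by
    rw [← k7, Subgroup.disjoint_def.mp hL.disjoint (cenK.1 ▸ Subgroup.mem_zpowers _) h2]; rfl)

end Cfsg.Agent.DCE.HN
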