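import Cfsg.Agent.DCE.HN.Perf
import Cfsg.Agent.Leech.OutHS
import Cfsg.Agent.SchurG.HS.Iso

set_option autoImplicit false

namespace Cfsg.Agent.DCE.HN
open Cfsg.Agent.Comp Cfsg.Agent.DCE

/-- elements of order `11` are not real and commute with no involution -/
def P11 (Q : Type*) [Group Q] : Prop := ∀ a u : Q, orderOf a = 11 →
  (u * a * u⁻¹ = a → u * u = 1 → u = 1) ∧ u * a * u⁻¹ ≠ a⁻¹

theorem P11.of {Q : Type*} [Group Q] (hQ : Nat.card Q = 44352000) {b : Q} (hb : orderOf b = 11)
    (hC : ∀ g, g * b = b * g → g ∈ Subgroup.zpowers b) : P11 Q := by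
  have : Finite Q := Nat.finite_of_card_ne_zero (by rw [hQ]; norm_num)
  have : Fact (Nat.Prime 11) := ⟨by norm_num⟩
  have hf : (Nat.card Q).factorization 11 = 1 := by
    rw [hQ, show 44352000 = 11 * 4032000 from rfl, Nat.factorization_mul (by norm_num) (by norm_num)]
    simp [Nat.Prime.factorization (by norm_num : Nat.Prime 11),
      Nat.factorization_eq_zero_of_not_dvd (by norm_num : ¬ 11 ∣ 4032000)]
  intro a u ha
  let P := Sylow.ofCard (p := 11) (Subgroup.zpowers a) (by rw [Nat.card_zpowers, ha, hf, pow_one])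
  let P' := Sylow.ofCard (p := 11) (Subgroup.zpowers b) (by rw [Nat.card_zpowers, hb, hf, pow_one])
  obtain ⟨g, hg⟩ := MulAction.exists_smul_eq Q P' P
  have h1 : g * b * g⁻¹ ∈ Subgroup.zpowers a := by
    have : (MulAut.conj g) • b ∈ ((g • P' : Sylow 11 Q) : Subgroup Q) :=
      Subgroup.smul_mem_pointwise_smul _ _ _ (Subgroup.mem_zpowers _)
    rwa [hg] at this
  have h2 : ∀ v, v * a = a * v → v ∈ Subgroup.zpowers a := fun v hv => by
    obtain ⟨k, hk⟩ := h1
    have e : v * (g * b * g⁻¹) = g * b * g⁻¹ * v := hk ▸ ((show Commute v a from hv).zpow_right k).eq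
    obtain ⟨l, hl⟩ := hC (g⁻¹ * v * g) (by
      calc _ = g⁻¹ * (v * (g * b * g⁻¹)) * g := by group
        _ = _ := by rw [e]; group)
    have : v = (g * b * g⁻¹) ^ l := by rw [conj_zpow, show b ^ l = _ from hl]; group
    rw [this]
    exact zpow_mem (Subgroup.mem_zpowers_iff.mpr ⟨k, hk⟩) l
  refine ⟨fun h h' => ?_, fun h => ?_⟩
  · have h3 := orderOf_dvd_of_mem_zpowers (h2 u (mul_inv_eq_iff_eq_mul.mp h))
    have h4 := orderOf_dvd_of_pow_eq_one ((pow_two u).trans h')
    rw [ha] at h3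
    exact orderOf_eq_one_iff.mp (Nat.eq_one_of_dvd_coprimes (by norm_num) h3 h4)
  · set N := Subgroup.normalizer (Subgroup.zpowers a : Set Q)
    have h3 : N.index ≡ 1 [MOD 11] := by
      have := card_sylow_modEq_one 11 Q
      rwa [P.card_eq_index_normalizer] at this
    have hc : Nat.card (Subgroup.zpowers a) = 11 := by rw [Nat.card_zpowers, ha]
    have h4 : Nat.card N ∣ 11 * 10 := by
      have : IsCyclic (Subgroup.zpowers a) := isCyclic_of_prime_card hc
      rw [← (Subgroup.zpowers a).normalizerMonoidHom.ker.card_mul_index, Subgroup.index_ker,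
        Subgroup.normalizerMonoidHom_ker,
        Nat.card_congr (Subgroup.subgroupOfEquivOfLe (Subgroup.centralizer_le_normalizer _)).toEquiv]
      refine Nat.mul_dvd_mul (hc ▸ Subgroup.card_dvd_of_le fun v hv =>
        h2 v (hv a (Subgroup.mem_zpowers a)).symm) ((Subgroup.card_subgroup_dvd_card _).trans ?_)
      rw [IsCyclic.card_mulAut, hc, Nat.totient_prime (by norm_num)]
    have h5 : u ∈ N := by
      refine Subgroup.mem_normalizer_fintype ?_
      rintro _ ⟨k, rfl⟩
      exact ⟨-k, by simp [← conj_zpow, h]⟩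
    have h6 : 2 ∣ Nat.card N := by
      refine dvd_trans ?_ (N.orderOf_dvd_natCard h5)
      by_contra ho
      have e1 : Commute (u ^ 2) a := by
        have : u * a⁻¹ * u⁻¹ = a := by rw [← conj_inv, h, inv_inv]
        change u ^ 2 * a = a * u ^ 2
        calc u ^ 2 * a = u * (u * a * u⁻¹) * u⁻¹ * u ^ 2 := by simp [mul_assoc, pow_two]
          _ = _ := by rw [h, this]
      obtain ⟨k, hk⟩ := exists_pow_eq_self_of_coprime (x := u) (n := 2)
        ((Nat.Prime.coprime_iff_not_dvd Nat.prime_two).mpr ho)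
      have e2 := e1.pow_left k
      rw [hk] at e2
      rw [e2.eq, mul_inv_cancel_right, eq_inv_iff_mul_eq_one, ← pow_two] at h
      have := orderOf_dvd_of_pow_eq_one h
      rw [ha] at this
      omega
    have h7 : 11 ∣ Nat.card N := hc ▸ Subgroup.card_dvd_of_le Subgroup.le_normalizer
    have h8 := N.card_mul_index
    rw [hQ] at h8
    have h9 : Nat.card N = 22 ∨ Nat.card N = 110 := by
      have := Nat.le_of_dvd (by norm_num) h4
      obtain ⟨c, e⟩ := Nat.Coprime.mul_dvd_of_dvd_of_dvd (by norm_num) h6 h7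
      rw [e] at h4 this ⊢
      have : c ≤ 5 := by omega
      interval_cases c <;> omega
    unfold Nat.ModEq at h3
    rcases h9 with e | e <;> rw [e] at h8 <;> omega

theorem P11.congr {Q Q' : Type*} [Group Q] [Group Q'] (e : Q ≃* Q') (h : P11 Q') : P11 Q :=
  fun a u ha => by
    have := h (e a) (e u) (by rw [MulEquiv.orderOf_eq, ha])
    simpa only [← map_mul, ← map_inv, ne_eq, e.injective.eq_iff, map_eq_one_iff e e.injective]
      using this

open Leech Leech.OutHS in
theorem hsQ : P11 (K ⧸ Subgroup.center K) ∧ Nat.card (Out (K ⧸ Subgroup.center K)) = 2 := by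
  obtain ⟨e1⟩ := cenK.2
  obtain ⟨e2⟩ := SchurG.HS.exists_iso
  have e3 : HH ≃* Spor.HS := subEquiv _ _ (fun g => by
    rw [HH, ← hs_eq, uu, hh, stab_neg, stab_neg]
    exact ⟨fun h => ⟨⟨g.2, h.1⟩, h.2⟩, fun h => ⟨h.1.2, h.2⟩⟩) (inf_le_left.trans inf_le_left)
  have e := e1.symm.trans (e2.trans e3.symm)
  refine ⟨.congr e ?_, (card_out_congr e).trans card_out⟩
  obtain ⟨a, ha, eA⟩ := in_gens A (by simp)
  have : Fact (Nat.Prime 11) := ⟨by norm_num⟩
  have hA : pwG A 11 = gone ∧ A ≠ gone := by decide +kernel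
  have h1 : orderOf a = 11 := orderOf_eq_prime
    (gc_injective (by rw [← pwG_gc, eA, hA.1, gc_one])) fun e => hA.2 (by rw [← eA, e, gc_one])
  have : Finite HH := Nat.finite_of_card_ne_zero (by rw [card_hs]; norm_num)
  refine .of card_hs (b := ⟨a, ha⟩) (by rw [← h1, ← Subgroup.orderOf_coe]) fun g e => ?_
  obtain ⟨k, hk⟩ := mem_zpowers_of_card ha (h1 ▸ cent_a eA) g.2 (congrArg Subtype.val e)
  exact ⟨k, Subtype.ext (by simpa using hk)⟩

end Cfsg.Agent.DCE.HN
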