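import Cfsg.Agent.DCE.HN.Rows
import Cfsg.Agent.DCE.HN.Cov
import Cfsg.Agent.DCE.HN.Mat
import Cfsg.Agent.DCE.Rew

set_option autoImplicit false
set_option maxRecDepth 100000

namespace Cfsg.Agent.DCE.HN
open Cfsg.Agent.Comp Cfsg.Agent.DCE

def DZ : List (List Nat × List (Nat × Nat × Nat × Nat)) :=
  [([4, 4, 4], [(2, 21, 1, 0), (2, 22, 0, 0), (1, 22, 0, 0), (0, 22, 0, 0)]),
   ([4], [(0, 14, 1, 0), (0, 23, 0, 0), (0, 14, 1, 0)]),
   ([0, 0], [(1, 15, 1, 1), (1, 24, 0, 0), (0, 24, 0, 0)]),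
   ([0, 0, 0], [(2, 17, 1, 1), (9, 24, 0, 0), (8, 24, 0, 0), (7, 24, 0, 0), (0, 24, 0, 0)]),
   ([0], [(0, 25, 1, 0), (0, 26, 0, 0), (0, 25, 1, 0)]),
   ([2, 2, 2, 2, 2, 2, 2, 2], [(0, 12, 1, 1), (14, 27, 0, 0), (12, 27, 0, 0), (10, 27, 0, 0), (8, 27, 0, 0), (6, 27, 0, 0), (4, 27, 0, 0), (2, 27, 0, 0), (0, 27, 0, 0)]),
   ([2, 2, 2, 2, 2, 2, 2, 2, 2, 2, 2, 2, 2, 2, 2], [(0, 11, 1, 3), (17, 27, 1, 0), (14, 27, 0, 0), (10, 27, 1, 0), (7, 27, 0, 0), (3, 27, 1, 0), (0, 27, 0, 0)]),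
   ([2], [(0, 28, 1, 0), (0, 29, 0, 0), (0, 28, 1, 0)]),
   ([1], [(0, 27, 0, 0)]),
   ([3], [(0, 30, 0, 0)]),
   ([5], [(0, 24, 0, 0)]),
   ([7], [(0, 22, 0, 0)])]

theorem top_of_t (N : Subgroup G) [N.Normal] (ht : s 6 * s 6 ∈ N) : N = ⊤ := by
  have h5 := pres.sat [6, 6, 6, 6, 6] (by decide +kernel)
  have h6 : s 6 ∈ N := by
    have := pow_mem ht 3
    rwa [show (s 6 * s 6) ^ 3 = ev s [6, 6, 6, 6, 6] * s 6 by
      simp only [ev_cons, ev_nil, pow_succ, pow_zero, mul_assoc, mul_one, one_mul], h5, one_mul] at this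
  have h1 : Sat (fun x => QuotientGroup.mk' N (s x)) (R ++ [[6]]) :=
    (pres.sat.map _).append fun w hw => by
      rw [List.mem_singleton.mp hw, ev_single]; exact (QuotientGroup.eq_one_iff _).mpr h6
  have h2 := h1.append (sat_der (L := 8) (iv := iv) h1 DZ (by decide +kernel))
  rw [eq_top_iff, ← pres.top, gen_le]
  intro x hx
  have := h2 [x] ((by decide +kernel : ∀ x < 8, [x] ∈ R ++ [[6]] ++ DZ.map Prod.fst) x hx)
  rw [ev_single] at this
  exact (QuotientGroup.eq_one_iff _).mp this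

theorem top_of_comm (N : Subgroup G) [N.Normal]
    (hc : Commute (QuotientGroup.mk' N (io (h 0 * h 0))) (QuotientGroup.mk' N (s 6))) : N = ⊤ := by
  refine top_of_t N ((QuotientGroup.eq_one_iff _).mp ?_)
  have h1 := congrArg (QuotientGroup.mk' N) tinv
  have h2 : ev h [1, 1] = (h 0 * h 0)⁻¹ := by simp [(inv1 presH.sat).1]
  rw [h2, show ev h [0, 0] = h 0 * h 0 by simp, map_mul, map_mul, hc.eq, map_inv io, map_inv,
    map_inv, mul_inv_cancel_right, inv_eq_iff_mul_eq_one, ← map_mul] at h1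
  exact h1

theorem top_of_mem (N : Subgroup G) [N.Normal] (ht : s 6 ∈ io.range ⊔ N) : N = ⊤ := by
  refine top_of_comm N ?_
  rw [← SetLike.mem_coe, Subgroup.mul_normal] at ht
  obtain ⟨_, ⟨g, rfl⟩, n, hn, e⟩ := ht
  have : QuotientGroup.mk' N n = 1 := (QuotientGroup.eq_one_iff _).mpr hn
  rw [← e]
  beta_reduce
  rw [map_mul (QuotientGroup.mk' N) (io g), this, mul_one]
  exact ((show Commute (h 0 * h 0) g from (Subgroup.mem_center_iff.mp cenx g).symm).map io).map _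

theorem bot_ne : (⊥ : Subgroup G) ≠ ⊤ := fun e => z_ne (Subgroup.mem_bot.mp (e ▸ Subgroup.mem_top _))

theorem t_not : s 6 ∉ io.range := fun e => bot_ne (top_of_mem ⊥ (by simpa using e))

theorem top_of_x (N : Subgroup G) [N.Normal] (hN : N.comap io ≠ ⊥) : N = ⊤ := by
  refine top_of_comm N ?_
  rw [show QuotientGroup.mk' N (io (h 0 * h 0)) = 1 from
    (QuotientGroup.eq_one_iff _).mpr (x2_mem _ hN)]
  exact Commute.one_left _

theorem io_inj : Function.Injective io := by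
  rw [← MonoidHom.ker_eq_bot_iff]
  by_contra e
  exact bot_ne (top_of_x ⊥ e)

theorem index : io.range.index = 1539000 := index_of t_not

theorem coatom : IsCoatom io.range := closed.coatom t_not above

theorem card_range : Nat.card io.range = 177408000 := by
  rw [← Nat.card_congr (MonoidHom.ofInjective io_inj).toEquiv, cardH.2.1]

theorem card : Nat.card G = 273030912000000 := by
  rw [← io.range.index_mul_card, index, card_range]

instance : Finite G := Nat.finite_of_card_ne_zero (by rw [card]; norm_num)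

theorem simple : IsSimpleGroup G := by
  have : Nontrivial G := ⟨_, _, z_ne⟩
  refine ⟨fun N hN => ?_⟩
  by_cases c : N ≤ io.range
  · refine or_iff_not_imp_left.mpr fun h0 => top_of_x N fun e => h0 ?_
    rw [← Subgroup.map_comap_eq_self c, e, Subgroup.map_bot]
  · refine .inr (top_of_mem N ?_)
    rw [coatom.2 _ (left_lt_sup.mpr c)]
    exact Subgroup.mem_top _

theorem rho_inj : Function.Injective rho := by
  have := simple
  rw [← MonoidHom.ker_eq_bot_iff]
  refine (rho.normal_ker.eq_bot_or_eq_top).resolve_right fun e => m4_ne ?_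
  rw [← rho_s 4 (by norm_num), show rho (s 4) = 1 from
    (e ▸ Subgroup.mem_top _ : s 4 ∈ rho.ker), Units.val_one]

end Cfsg.Agent.DCE.HN
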