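import Cfsg.Agent.DCE.HN.Cov
import Cfsg.Agent.DCE.Rew
import Cfsg.Agent.H2.Schur2

set_option autoImplicit false
set_option maxRecDepth 100000

namespace Cfsg.Agent.DCE.HN
open Cfsg.Agent.Comp Cfsg.Agent.DCE

def twU : List (List Nat) := [[2], [3], [1, 2, 0], [1, 3, 0]]

def RU : List (List Nat) :=
  [[0, 1],
   [1, 0],
   [2, 3],
   [3, 2],
   [0, 0, 0, 0, 0, 0],
   [2, 2, 2, 2, 2, 2],
   [3, 0, 3, 0, 3, 0],
   [2, 2, 0, 0, 0, 2, 2, 0, 0, 0, 2, 2, 0, 0, 0],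
   [2, 0, 2, 0, 2, 0, 2, 0],
   [2, 0, 0, 0, 2, 0, 0, 0, 2, 0, 0, 0, 2, 0, 0, 0]]

def DU : List (List Nat × List (Nat × Nat × Nat × Nat)) :=
  [([3, 3, 3, 0, 0, 0], [(2, 10, 1, 1), (1, 6, 1, 0), (0, 10, 0, 2)]),
   ([2, 2, 2, 2, 2, 2, 0, 0, 0, 0, 0, 0, 0, 0, 0], [(5, 10, 0, 0), (4, 10, 0, 0), (3, 10, 0, 0), (2, 10, 0, 0), (1, 10, 0, 0), (0, 10, 0, 0), (6, 10, 0, 0), (5, 10, 0, 0), (4, 10, 0, 0), (3, 10, 0, 0), (2, 10, 0, 0), (1, 10, 0, 0), (7, 10, 0, 0), (6, 10, 0, 0), (5, 10, 0, 0), (4, 10, 0, 0), (3, 10, 0, 0), (2, 10, 0, 0), (8, 10, 0, 0), (7, 10, 0, 0), (6, 10, 0, 0), (5, 10, 0, 0), (4, 10, 0, 0), (3, 10, 0, 0), (9, 10, 0, 0), (8, 10, 0, 0), (7, 10, 0, 0), (6, 10, 0, 0), (5, 10, 0, 0), (4, 10, 0, 0), (10, 10, 0, 0), (9, 10, 0, 0), (8, 10, 0, 0), (7, 10, 0, 0), (6, 10, 0, 0), (5, 10, 0, 0), (11, 10, 0, 0), (10, 10, 0, 0), (9, 10, 0, 0), (8, 10, 0, 0), (7, 10, 0, 0), (6, 10, 0, 0), (12,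 10, 0, 0), (11, 10, 0, 0), (10, 10, 0, 0), (9, 10, 0, 0), (8, 10, 0, 0), (7, 10, 0, 0), (13, 10, 0, 0), (12, 10, 0, 0), (11, 10, 0, 0), (10, 10, 0, 0), (9, 10, 0, 0), (7, 10, 1, 0), (6, 10, 1, 0), (9, 10, 1, 0), (10, 10, 1, 0), (11, 10, 1, 0), (12, 10, 1, 0), (8, 10, 1, 0), (9, 10, 1, 0), (12, 10, 0, 0), (11, 10, 0, 0), (7, 10, 1, 0), (9, 10, 0, 0), (10, 10, 0, 0), (3, 7, 1, 3), (4, 10, 0, 2), (2, 10, 0, 3), (3, 10, 0, 2), (4, 10, 0, 2), (1, 10, 0, 3), (0, 10, 0, 3)]),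
   ([0, 0, 0], [(0, 4, 1, 0), (0, 12, 0, 9), (6, 5, 1, 0), (0, 4, 1, 0)]),
   ([2, 2, 2], [(0, 11, 0, 3), (0, 13, 1, 0)]),
   ([2, 2, 2, 2], [(0, 9, 1, 0), (12, 13, 0, 0), (8, 13, 0, 0), (4, 13, 0, 0), (0, 13, 0, 0)]),
   ([2], [(0, 14, 1, 0), (0, 15, 0, 0), (0, 14, 1, 0), (0, 15, 0, 0), (0, 14, 1, 0)]),
   ([0, 0, 0, 0], [(3, 8, 1, 1), (3, 16, 0, 0), (2, 16, 0, 0), (1, 16, 0, 0), (0, 16, 0, 0)]),
   ([0], [(0, 13, 1, 0), (0, 17, 0, 0), (0, 13, 1, 0), (0, 17, 0, 0), (0, 13, 1, 0)]),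
   ([1], [(0, 18, 0, 0)]),
   ([3], [(0, 16, 0, 0)])]

/-- the stabiliser of `0` -/
def U : Subgroup H := gen (fun x => ev h (twU.getD x [])) 4

theorem U_eq : U = genW h twU := gen_subst h twU

theorem memU (g : H) : g ∈ U ↔ phi g 0 = 0 := by
  rw [← stab.2, U_eq]
  refine ⟨fun hg => genW_le.mpr (fun w hw => (stab.2 _).mpr ?_) hg,
    fun hg => genW_mono (by decide) hg⟩
  have : ∀ w ∈ twU, band (ltB 6 w) (mem1 T w (pt 0) (nat_lit 0)) = true := by decide +kernel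
  have := (band_eq _ _).mp (this w hw)
  exact ctx.pt0 this.1 this.2

theorem U_le_K : U ≤ K := fun g hg => U_le ((memU g).mp hg)

instance : Finite H := cardH.1

theorem cardU : Nat.card U = 126000 :=
  card_eq_of_index (n := 1408) (cardH.2.1.trans (by norm_num))
    ((congrArg Subgroup.index (Subgroup.ext fun g => (memU g).trans (stab.2 g).symm)).trans stab.1)
    (by norm_num)

instance perfU : Group.IsPerfect U := by
  have hex : ∀ x < 4, ∃ g, U.subtype g = ev h (twU.getD x []) := fun _ hx =>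
    ⟨⟨_, letter_mem_gen hx⟩, rfl⟩
  have h0 : Sat (fun x => ev h (twU.getD x [])) RU := Sat.subst (satW _ (by decide +kernel))
  have h1 := (sat_liftS U.subtype_injective hex (by decide +kernel) h0).map Abelianization.of
  have h2 : Sat _ (RU ++ [[0, 2, 1, 3]]) := h1.append fun w hw => by
    have e1 := h1 [0, 1] (by decide)
    have e2 := h1 [2, 3] (by decide)
    rw [List.mem_singleton.mp hw]
    simp only [ev_cons, ev_nil, mul_one] at e1 e2 ⊢
    rw [mul_left_comm (Abelianization.of (liftS _ _ 2)), e2, mul_one, e1]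
  have h3 := sat_der (L := 4) (iv := 172035073) h2 DU (by decide +kernel)
  refine ⟨?_⟩
  rw [eq_top_iff, ← gen_liftS_top (s := fun x => ev h (twU.getD x [])) (L := 4) U.subtype_injective
    (by rw [Subgroup.range_subtype]; rfl), gen_le]
  intro x hx
  have := h3 [x] ((by decide +kernel : ∀ x < 4, [x] ∈ DU.map Prod.fst) x hx)
  rw [ev_single] at this
  rwa [← Abelianization.ker_of, MonoidHom.mem_ker]

theorem center_le : Subgroup.center K ≤ commutator K := by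
  rw [cenK.1, Subgroup.zpowers_le, ← Subgroup.mem_map_iff_mem K.subtype_injective,
    Subgroup.map_subtype_commutator]
  rw [Subgroup.subtype_apply, k7]
  refine x2_mem ⁅K, K⁆ fun e => ?_
  have h1 : ⁅U, U⁆ ≤ ⊥ := e ▸ Subgroup.commutator_mono U_le_K U_le_K
  rw [Subgroup.commutator_eq_self] at h1
  exact rep.ne (S := pt 2) (u := [2]) (v := []) (by decide +kernel)
    (Subgroup.mem_bot.mp (h1 (U_eq ▸ ev_mem_genW (by decide))))

theorem perfHS : Group.IsPerfect (K ⧸ Subgroup.center K) := by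
  obtain ⟨e⟩ := cenK.2
  have := SchurG.HS.simple
  have := e.symm.isSimpleGroup
  refine ⟨(Subgroup.Normal.eq_bot_or_eq_top inferInstance).resolve_left fun k => ?_⟩
  have h1 : commutator K ≤ Subgroup.center K := by
    rw [← QuotientGroup.ker_mk' (Subgroup.center K), ← Subgroup.map_eq_bot_iff, eq_bot_iff, ← k,
      commutator_def, Subgroup.map_commutator]
    exact Subgroup.commutator_mono le_top le_top
  have h2 := Subgroup.card_le_of_le (Subgroup.map_mono (f := K.subtype) h1)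
  rw [Subgroup.map_subtype_commutator, Subgroup.card_subtype, card_cenK] at h2
  have h3 := Subgroup.card_le_of_le (Subgroup.commutator_mono U_le_K U_le_K)
  rw [Subgroup.commutator_eq_self, cardU] at h3
  omega

theorem stemK : IsStemExtension (QuotientGroup.mk' (Subgroup.center K)) :=
  ⟨QuotientGroup.mk'_surjective _, (QuotientGroup.ker_mk' _).le, (QuotientGroup.ker_mk' _).trans_le center_le⟩

instance perfK : Group.IsPerfect K := have := perfHS; H2.Schur.perfect_of_stem stemK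

end Cfsg.Agent.DCE.HN
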