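import Cfsg.Agent.DCE.HN.Main
import Cfsg.Agent.DCE.HN.Perf
import Cfsg.Agent.S2046

set_option autoImplicit false
set_option maxRecDepth 100000

namespace Cfsg.Agent.DCE.HN
open Cfsg.Agent.Comp Cfsg.Agent.DCE Cfsg.Agent.H2.Schur
open scoped IsMulCommutative

theorem multK : HasCyclicSchurMultiplier K 1 := by
  have := cardH.1
  obtain ⟨e1⟩ := cenK.2
  obtain ⟨e2⟩ := SchurG.HS.exists_iso
  have hm := has_congr S2046.result (e2.symm.trans e1) (MulEquiv.refl _)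
  refine has_one_of fun Γ _ _ σ hσ => ?_
  have := perfect_of_stem hσ
  have h1 := stem_of_perfect (cext_comp (cext_of_stem hσ) (cext_of_stem stemK))
  have h2 := card_skr_le hm (cext_of_stem h1)
  have h3 := card_eq_of_surjective h1.1
  have h4 := card_eq_of_surjective hσ.1
  rw [skr_eq_ker h1] at h2
  rw [← Nat.card_congr e1.toEquiv, SchurG.HS.card.2.1] at h3
  rw [cardK, h3] at h4
  have h5 : Nat.card (Multiplicative (ZMod 2)) = 2 := by simp
  rw [h5] at h2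
  have h6 : 0 < Nat.card σ.ker := Nat.card_pos
  exact Subgroup.card_eq_one.mp (by nlinarith)

section lift
variable {Γ : Type} [Group Γ] {σ : Γ →* G} {η : K →* Γ}

theorem conj_lift (hc : σ.ker ≤ Subgroup.center Γ) (hη : σ.comp η = io.comp K.subtype) {z : Γ}
    {g : H} (hz : σ z = io g) (a : K) :
    z * η a * z⁻¹ = η ⟨g * a * g⁻¹, (inferInstance : K.Normal).conj_mem _ a.2 g⟩ := by
  have := hom_eq_of_perfect hc (η := (MulAut.conj z).toMonoidHom.comp η)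
    (η' := η.comp (MulAut.conjNormal g).toMonoidHom) (by
      ext b
      have h1 := DFunLike.congr_fun hη b
      have h2 := DFunLike.congr_fun hη (MulAut.conjNormal g b)
      simp only [MonoidHom.comp_apply, Subgroup.subtype_apply, MulAut.conjNormal_apply] at h1 h2
      simp [h1, h2, hz])
  exact DFunLike.congr_fun this a

theorem comm_lift (hc : σ.ker ≤ Subgroup.center Γ) (hη : σ.comp η = io.comp K.subtype) {t : Γ}
    (ht : σ t = s 6) (a : K) (ha : phi a 0 = 0) : t * η a * t⁻¹ = η a := by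
  have := hom_eq_of_perfect hc
    (η := (MulAut.conj t).toMonoidHom.comp (η.comp (Subgroup.inclusion U_le_K)))
    (η' := η.comp (Subgroup.inclusion U_le_K)) (by
      ext b
      have h1 := DFunLike.congr_fun hη (Subgroup.inclusion U_le_K b)
      simp only [MonoidHom.comp_apply, Subgroup.subtype_apply, Subgroup.coe_inclusion] at h1
      simp [h1, ht, ← cm b ((memU b).mp b.2)])
  exact DFunLike.congr_fun this ⟨a, (memU a).mpr ha⟩

theorem norm_t {x t : Γ} (ha : t ^ 5 ∈ Subgroup.center Γ)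
    (hb : x⁻¹ * t * x * t ^ 2 ∈ Subgroup.center Γ) :
    ∃ d ∈ Subgroup.closure {t ^ 5, x⁻¹ * t * x * t ^ 2},
      (t * d) ^ 5 = 1 ∧ x⁻¹ * (t * d) * x * (t * d) ^ 2 = 1 := by
  obtain ⟨a, ea⟩ : ∃ a : Subgroup.center Γ, a = t ^ 5 := ⟨⟨_, ha⟩, rfl⟩
  obtain ⟨b, eb⟩ : ∃ b : Subgroup.center Γ, b = x⁻¹ * t * x * t ^ 2 := ⟨⟨_, hb⟩, rfl⟩
  have c : ∀ (c : Subgroup.center Γ) (g : Γ), Commute g c := fun c g =>
    Subgroup.mem_center_iff.mp c.2 g
  have h1 : b ^ 5 = a ^ 3 := Subtype.ext (by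
    have e1 : x⁻¹ * t * x = (t ^ 2)⁻¹ * b := by rw [(c b _).eq, eb]; group
    have e2 : (x⁻¹ * t * x) ^ 5 = a := by
      rw [show (x⁻¹ * t * x) ^ 5 = x⁻¹ * t ^ 5 * x by simpa using conj_pow (a := x⁻¹) (b := t) (i := 5),
        ← ea, (c a _).eq]; group
    rw [e1, (c b _).mul_pow, show (t ^ 2)⁻¹ ^ 5 = ((t ^ 5) ^ 2)⁻¹ by group, ← ea] at e2
    rw [Subgroup.coe_pow, Subgroup.coe_pow, inv_mul_eq_iff_eq_mul.mp e2]; group)
  refine ⟨((a * (b ^ 2)⁻¹ : Subgroup.center Γ) : Γ), ?_, ?_, ?_⟩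
  · rw [← ea, ← eb]
    exact mul_mem (Subgroup.subset_closure (by simp))
      (inv_mem (pow_mem (Subgroup.subset_closure (by simp)) 2))
  · rw [(c _ t).mul_pow, ← ea, ← Subgroup.coe_pow, ← Subgroup.coe_mul, OneMemClass.coe_eq_one,
      mul_pow, inv_pow, ← pow_mul, show 2 * 5 = 5 * 2 from rfl, pow_mul, h1]
    group
  · have k : ∀ d : Subgroup.center Γ, x⁻¹ * (t * d) * x * (t * d) ^ 2 = (x⁻¹ * t * x * t ^ 2) * d ^ 3 :=
      fun d => by
        rw [(c d t).mul_pow, show x⁻¹ * (t * d) * x = x⁻¹ * t * (d * x) by group, ← (c d x).eq,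
          show x⁻¹ * t * (x * d) * (t ^ 2 * d ^ 2) = x⁻¹ * t * x * (d * t ^ 2) * d ^ 2 by group,
          ← (c d (t ^ 2)).eq]
        group
    rw [k, ← eb, ← Subgroup.coe_pow, ← Subgroup.coe_mul, OneMemClass.coe_eq_one, mul_pow, ← h1,
      inv_pow, ← pow_mul, ← mul_assoc, ← pow_succ']
    exact mul_inv_cancel _

theorem norm_z {c z t : Γ} (ha : z ^ 2 ∈ Subgroup.center Γ) (he : (z * t) ^ 3 ∈ Subgroup.center Γ)
    (h1 : c * z * c⁻¹ = z) (h2 : c * t * c⁻¹ = t⁻¹) :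
    ∃ d ∈ Subgroup.closure {z ^ 2, (z * t) ^ 3}, (z * d) ^ 2 = 1 ∧ (z * d * t) ^ 3 = 1 := by
  obtain ⟨a, ea⟩ : ∃ a : Subgroup.center Γ, a = z ^ 2 := ⟨⟨_, ha⟩, rfl⟩
  obtain ⟨e, ee⟩ : ∃ e : Subgroup.center Γ, e = (z * t) ^ 3 := ⟨⟨_, he⟩, rfl⟩
  have k : ∀ (c : Subgroup.center Γ) (g : Γ), Commute g c := fun c g =>
    Subgroup.mem_center_iff.mp c.2 g
  have h3 : (z * t⁻¹) ^ 3 = e := by
    rw [← h1, ← h2, show (c * z * c⁻¹ * (c * t * c⁻¹)) = c * (z * t) * c⁻¹ by group, conj_pow, ← ee,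
      (k e c).eq, mul_inv_cancel_right]
  have h4 : e ^ 2 = a ^ 3 := Subtype.ext (by
    have e1 : (t⁻¹ * z) ^ 3 = e := by
      rw [show t⁻¹ * z = z⁻¹ * (z * t⁻¹) * z⁻¹⁻¹ by group, conj_pow, h3, (k e _).eq, mul_inv_cancel_right]
    have e2 : t⁻¹ * z = (z * t)⁻¹ * a := by rw [ea]; group
    rw [e2, (k a _).mul_pow, inv_pow, ← ee, inv_mul_eq_iff_eq_mul] at e1
    rw [Subgroup.coe_pow, Subgroup.coe_pow, e1, pow_two])
  refine ⟨((a * e⁻¹ : Subgroup.center Γ) : Γ), ?_, ?_, ?_⟩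
  · rw [← ea, ← ee]
    exact mul_mem (Subgroup.subset_closure (by simp)) (inv_mem (Subgroup.subset_closure (by simp)))
  · rw [(k _ z).mul_pow, ← ea, ← Subgroup.coe_pow, ← Subgroup.coe_mul, OneMemClass.coe_eq_one,
      mul_pow, inv_pow, h4, ← mul_assoc, ← pow_succ']
    exact mul_inv_cancel _
  · rw [mul_assoc, ← (k _ t).eq, ← mul_assoc, (k _ _).mul_pow, ← ee, ← Subgroup.coe_pow,
      ← Subgroup.coe_mul, OneMemClass.coe_eq_one, mul_pow, inv_pow, ← h4, ← mul_assoc, ← pow_succ']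
    exact mul_inv_cancel _

theorem z_not : h 4 ∉ K := by
  rw [K_eq, MonoidHom.mem_ker, ← ev_single h, sg_ev (by decide)]
  decide

theorem sat_lift {z : Γ} (hz : ∀ a : K, z * η a * z⁻¹ =
      η ⟨h 4 * a * (h 4)⁻¹, (inferInstance : K.Normal).conj_mem _ a.2 _⟩) (hz2 : z ^ 2 = 1)
    {r : ℕ → Γ} (hr : ∀ x < 4, ∃ a : K, h x = a ∧ r x = η a) (h4 : r 4 = z) (h5 : r 5 = z) :
    Sat r RH := by
  have e4 : h 4 * h 4 = 1 := by simpa using presH.sat [4, 4] (by decide)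
  have e5 : h 5 = h 4 := by rw [(inv1 presH.sat).2.2, inv_eq_iff_mul_eq_one, e4]
  have key : ∀ w : List ℕ, (∀ x ∈ w, x < 6) → ∃ a : K,
      (ev h w = a ∧ ev r w = η a) ∨ (ev h w = a * h 4 ∧ ev r w = η a * z) := fun w hw => by
    induction w with
    | nil => exact ⟨1, .inl ⟨rfl, by simp⟩⟩
    | cons x w ih =>
      obtain ⟨a, ha⟩ := ih fun y hy => hw y (List.mem_cons_of_mem _ hy)
      rw [ev_cons, ev_cons]
      by_cases c : x < 4
      · obtain ⟨b, e1, e2⟩ := hr x c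
        refine ⟨b * a, ha.imp (fun ha => ?_) fun ha => ?_⟩ <;> simp [ha.1, ha.2, e1, e2, mul_assoc]
      · have : h x = h 4 ∧ r x = z := by
          obtain rfl | rfl : x = 4 ∨ x = 5 := by have := hw x (by simp); omega
          exacts [⟨rfl, h4⟩, ⟨e5, h5⟩]
        refine ⟨⟨h 4 * a * (h 4)⁻¹, (inferInstance : K.Normal).conj_mem _ a.2 _⟩, ?_⟩
        rw [← hz, this.1, this.2]
        rcases ha with ha | ha
        · exact .inr (by simp [ha.1, ha.2])
        · refine .inl ?_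
          rw [ha.1, ha.2]
          simp [mul_assoc, inv_eq_of_mul_eq_one_right e4, inv_eq_of_mul_eq_one_right (pow_two z ▸ hz2)]
  intro w hw
  obtain ⟨a, ha | ha⟩ := key w (hRH w hw)
  · rw [ha.2, show a = 1 from Subtype.ext (ha.1.symm.trans (presH.sat w hw)), map_one]
  · rw [presH.sat w hw] at ha
    exact (z_not (by rw [← inv_eq_of_mul_eq_one_right ha.1.symm]; exact inv_mem a.2)).elim

end lift

theorem yK : h 2 ∈ K := by simpa using memK (w := [2]) (by decide)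

theorem mult : HasCyclicSchurMultiplier G 1 := by
  refine has_one_of fun Γ _ _ σ hσ => ?_
  have hc := hσ.2.1
  obtain ⟨η, hη⟩ := exists_lift_of_trivial multK (cext_of_stem hσ) (io.comp K.subtype)
  have hη' : ∀ a : K, σ (η a) = io a := DFunLike.congr_fun hη
  obtain ⟨e1, e3, e5⟩ := inv1 presH.sat
  have e7 : s 7 = (s 6)⁻¹ := (invG 6 (by norm_num)).2
  let x : K := ⟨h 0, xK⟩
  let y : K := ⟨h 2, yK⟩
  have hx : σ (η x) = s 0 := (hη' x).trans (io_h 0 (by norm_num))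
  obtain ⟨t0, ht0⟩ := hσ.1 (s 6)
  have k1 : t0 ^ 5 ∈ σ.ker := by
    have := pres.sat [6, 6, 6, 6, 6] (by decide)
    simpa [pow_succ, ht0, mul_assoc] using this
  have k2 : (η x)⁻¹ * t0 * η x * t0 ^ 2 ∈ σ.ker := by
    have := pres.sat [1, 6, 0, 6, 6] (by decide)
    simpa [pow_succ, ht0, hx, mul_assoc, (inv1 satH).1] using this
  obtain ⟨d, hd, t5, tx⟩ := norm_t (hc k1) (hc k2)
  have ht : σ (t0 * d) = s 6 := by
    rw [map_mul, ht0, show σ d = 1 from (Subgroup.closure_le σ.ker).mpr (by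
      rintro _ (rfl | rfl); exacts [k1, k2]) hd, mul_one]
  generalize t0 * d = t at t5 tx ht
  obtain ⟨z0, hz0⟩ := hσ.1 (s 4)
  have k3 : z0 ^ 2 ∈ σ.ker := by
    have := pres.sat [4, 4] (by decide)
    simpa [pow_succ, hz0] using this
  have k4 : (z0 * t) ^ 3 ∈ σ.ker := by
    have := pres.sat [4, 6, 4, 6, 4, 6] (by decide)
    simpa [pow_succ, hz0, ht, mul_assoc] using this
  have k5 : (η (x * x))⁻¹ * z0 * (η (x * x))⁻¹⁻¹ = z0 := by
    have := conj_lift hc hη (hz0.trans (io_h 4 (by norm_num)).symm) (x * x)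
    rw [show (⟨h 4 * (x * x : K) * (h 4)⁻¹, _⟩ : K) = x * x from Subtype.ext (by
      change h 4 * (h 0 * h 0) * (h 4)⁻¹ = h 0 * h 0
      rw [Subgroup.mem_center_iff.mp cenx, mul_inv_cancel_right])] at this
    rw [inv_inv, mul_assoc, mul_inv_eq_iff_eq_mul.mp this, inv_mul_cancel_left]
  have k6 : (η (x * x))⁻¹ * t * (η (x * x))⁻¹⁻¹ = t⁻¹ := by
    have e : (η x)⁻¹ * t * (η x)⁻¹⁻¹ = (t ^ 2)⁻¹ := by rw [inv_inv]; exact eq_inv_of_mul_eq_one_left tx
    calc _ = (η x)⁻¹ * ((η x)⁻¹ * t * (η x)⁻¹⁻¹) * (η x)⁻¹⁻¹ := by simp [mul_assoc]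
      _ = (((η x)⁻¹ * t * (η x)⁻¹⁻¹) ^ 2)⁻¹ := by rw [conj_pow]; nth_rw 1 [e]; group
      _ = t ^ 5 * t⁻¹ := by rw [e]; group
      _ = _ := by rw [t5, one_mul]
  obtain ⟨d', hd', z2, zt⟩ := norm_z (hc k3) (hc k4) k5 k6
  have hz : σ (z0 * d') = s 4 := by
    rw [map_mul, hz0, show σ d' = 1 from (Subgroup.closure_le σ.ker).mpr (by
      rintro _ (rfl | rfl); exacts [k3, k4]) hd', mul_one]
  generalize z0 * d' = z at z2 zt hz
  let r : ℕ → Γ := fun i => [η x, η x⁻¹, η y, η y⁻¹, z, z, t, t⁻¹].getD i 1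
  have h1 : Sat r RH := sat_lift (conj_lift hc hη (hz.trans (io_h 4 (by norm_num)).symm)) z2
    (fun i hi => by
      interval_cases i
      exacts [⟨x, rfl, rfl⟩, ⟨x⁻¹, e1, rfl⟩, ⟨y, rfl, rfl⟩, ⟨y⁻¹, e3, rfl⟩]) rfl rfl
  have ty := comm_lift hc hη ht y ((stab.2 _).mp (letter_mem_genW (by decide)))
  have h2 : Sat r [[6, 7], [7, 6], [6, 6, 6, 6, 6], [1, 6, 0, 6, 6], [7, 3, 6, 2], [4, 6, 4, 6, 4, 6]] := by
    simp only [Sat, List.forall_mem_cons, ev_cons, ev_nil]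
    refine ⟨by simp [r], by simp [r], ?_, ?_, ?_, ?_, by simp⟩
    · simpa [r, pow_succ, mul_assoc] using t5
    · simpa [r, pow_succ, mul_assoc] using tx
    · simp [r, mul_inv_eq_iff_eq_mul.mp ty]
    · simpa [r, pow_succ, mul_assoc] using zt
  obtain ⟨ψ, hψ⟩ := pres.univ Γ r ((h1.append h2).mono (by decide +kernel))
  refine ker_eq_bot_of_section hσ (s := ψ) ?_
  have h3 : gen s 8 ≤ (σ.comp ψ).eqLocus (MonoidHom.id G) := gen_le.mpr fun i hi => by
    change σ (ψ (s i)) = s i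
    rw [hψ i hi]
    have e4 : s 5 = s 4 := by
      rw [(inv1 satH).2.2, inv_eq_iff_mul_eq_one]; simpa using pres.sat [4, 4] (by decide)
    have hy : σ (η y) = s 2 := (hη' y).trans (io_h 2 (by norm_num))
    interval_cases i <;> simp [r, hx, hy, hz, ht, e7, e4, (inv1 satH).1, (inv1 satH).2.1]
  exact MonoidHom.ext fun g => h3 (pres.top ▸ Subgroup.mem_top g)

end Cfsg.Agent.DCE.HN
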