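import Cfsg.Agent.DCE.HN.Sz
import Cfsg.Agent.DCE.HN.HS11
import Cfsg.Agent.DCE.HN.Mult

set_option autoImplicit false
set_option maxRecDepth 100000

namespace Cfsg.Agent.DCE.HN
open Cfsg.Agent.Comp Cfsg.Agent.DCE Cfsg.Agent.H2.Schur

theorem out_lift {X : Type*} [Group X] [Group.IsPerfect X]
    (h : Nat.card (Out (X ⧸ Subgroup.center X)) = 2) {ζ : MulAut X} (hζ : ∀ k, MulAut.conj k ≠ ζ)
    (β : MulAut X) : ∃ k, β = MulAut.conj k ∨ β = MulAut.conj k * ζ := by
  let q : MulAut X →* MulAut (X ⧸ Subgroup.center X) := MonoidHom.mk'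
    (fun β => QuotientGroup.congr _ _ β (Subgroup.characteristic_iff_map_eq.mp inferInstance β))
    fun a b => MulEquiv.ext fun x => by
      obtain ⟨x, rfl⟩ := QuotientGroup.mk_surjective x
      rfl
  let f := (QuotientGroup.mk' (Inn _)).comp q
  have h1 : ∀ β, f β = 1 → ∃ k, β = MulAut.conj k := fun β hβ => by
    obtain ⟨k, hk⟩ := (QuotientGroup.eq_one_iff _).mp hβ
    obtain ⟨k, rfl⟩ := QuotientGroup.mk_surjective k
    refine ⟨k, MulEquiv.toMonoidHom_injective (hom_eq_of_perfect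
      (ξ := QuotientGroup.mk' (Subgroup.center X)) (QuotientGroup.ker_mk' _).le ?_)⟩
    ext x
    exact (DFunLike.congr_fun hk (x : X ⧸ Subgroup.center X)).symm
  by_cases c : f β = 1
  · exact (h1 β c).imp fun _ => .inl
  · obtain ⟨y, -, hy⟩ := (Nat.card_eq_two_iff' 1).mp h
    have h2 : f ζ ≠ 1 := fun e => (h1 ζ e).elim fun k e => hζ k e.symm
    obtain ⟨k, hk⟩ := h1 (β * ζ⁻¹) (by rw [map_mul, map_inv, hy _ c, hy _ h2, mul_inv_cancel])
    exact ⟨k, .inr (by rw [← hk, inv_mul_cancel_right])⟩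

theorem inv_conj {X : Type*} [Group X] [Finite X] {c d : X} (C : Subgroup X) (hc : c ∈ C)
    (hd : d ∈ C) (c2 : c * c = 1) (d2 : d * d = 1) (d1 : d ≠ 1)
    (h : ∀ e ∈ C, e * c = c * e → e * e = 1 → e = 1 ∨ e = c) : ∃ g, g * d * g⁻¹ = c := by
  have ci := inv_eq_of_mul_eq_one_right c2
  have di := inv_eq_of_mul_eq_one_right d2
  have h1 : ∀ m : ℕ, c * (c * d) ^ m * c⁻¹ = ((c * d) ^ m)⁻¹ := fun m => by
    rw [← conj_pow, ← inv_pow, mul_inv_rev, ci, di, ← mul_assoc c, c2, one_mul]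
  have h2 : ∀ m : ℕ, d * (c * d) ^ m * d⁻¹ = ((c * d) ^ m)⁻¹ := fun m => by
    rw [← conj_pow, ← inv_pow, mul_inv_rev, ci, di, mul_assoc, mul_assoc, d2, mul_one]
  obtain ⟨m, hm | hm⟩ := Nat.even_or_odd' (orderOf (c * d))
  · have h3 : (c * d) ^ m * (c * d) ^ m = 1 := by rw [← pow_add, ← two_mul, ← hm, pow_orderOf_eq_one]
    have h4 := orderOf_pos (c * d)
    rcases h _ (pow_mem (mul_mem hc hd) m) (by
      rw [mul_inv_eq_iff_eq_mul.mp (h1 m), inv_eq_of_mul_eq_one_right h3]) h3 with e | e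
    · exact (pow_ne_one_of_lt_orderOf (by omega) (by omega) e).elim
    · have h5 := h2 m
      rw [e, ci, mul_inv_eq_iff_eq_mul] at h5
      exact ⟨1, by simpa using (h d hd h5 d2).resolve_left d1⟩
  · refine ⟨(c * d) ^ (m + 1), ?_⟩
    rw [← h2, ← mul_assoc, ← mul_assoc, mul_assoc _ d d, d2, mul_one, ← pow_add,
      show m + 1 + (m + 1) = orderOf (c * d) + 1 by omega, pow_succ, pow_orderOf_eq_one]
    simp

/-- the involution `x ^ 2` -/
noncomputable def cc : G := io (h 0 * h 0)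

theorem x22 : h 0 * h 0 * (h 0 * h 0) = 1 := (pow_two _).symm.trans (x4 presH.sat)

theorem cc_comm (k : H) : io k * cc = cc * io k := by
  rw [cc, ← map_mul, ← map_mul, Subgroup.mem_center_iff.mp cenx]

theorem cenC {g : G} (hg : g * cc = cc * g) : g ∈ io.range := by
  have h1 : io.range ≤ Subgroup.centralizer {cc} := by
    rintro _ ⟨k, rfl⟩
    exact Subgroup.mem_centralizer_singleton_iff.mpr (cc_comm k)
  rcases h1.eq_or_lt with e | e
  · exact e ▸ Subgroup.mem_centralizer_singleton_iff.mpr hg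
  · have : s 6 ∈ Subgroup.centralizer {cc} := coatom.2 _ e ▸ Subgroup.mem_top _
    exact (bot_ne (top_of_comm ⊥ (Commute.map
      (Subgroup.mem_centralizer_singleton_iff.mp this).symm _))).elim

theorem zK {a : K} (ha : a ∈ Subgroup.center K) : (a : H) = 1 ∨ (a : H) = h 0 * h 0 := by
  obtain ⟨y, -, hy⟩ := (Nat.card_eq_two_iff' 1).mp card_cenK
  by_cases c : a = 1
  · exact .inl (congrArg Subtype.val c)
  · have h1 := hy ⟨a, ha⟩ fun e => c (congrArg Subtype.val e)
    have h2 := hy ⟨k 7, cenK.1 ▸ Subgroup.mem_zpowers _⟩ fun e =>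
      x2_ne (k7.symm.trans (congrArg (fun x : Subgroup.center K => (x.1 : H)) e))
    exact .inr ((congrArg (fun x : Subgroup.center K => (x.1 : H)) (h1.trans h2.symm)).trans k7)

theorem cenKH {g : H} (hg : ∀ a ∈ K, g * a = a * g) : g = 1 ∨ g = h 0 * h 0 :=
  zK (a := ⟨g, mem_of_comm fun u hu => by
    rwa [mul_assoc, ← hg u (U_le hu), inv_mul_cancel_left]⟩)
    (Subgroup.mem_center_iff.mpr fun a => Subtype.ext (hg a a.2).symm)

/-- an element of order `11` -/
def gw : List ℕ := [2, 4, 2, 4, 2, 4, 2, 4, 2, 4, 3, 3, 4, 2, 2, 4, 2, 4, 2, 4, 2, 4, 2, 4, 3, 4, 2, 2]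

/-- an involution outside `K` that inverts it -/
def vw : List ℕ := [2, 4, 2, 4, 2, 4, 2, 4, 2, 4]

theorem sat11 : Sat h [wpow gw 11, vw ++ gw ++ vw ++ gw, vw ++ vw] := satW _ (by decide +kernel)

theorem ord11 : orderOf (ev h gw) = 11 :=
  have : Fact (Nat.Prime 11) := ⟨by norm_num⟩
  orderOf_eq_prime ((ev_wpow _ _ _).symm.trans (sat11 _ (by simp)))
    (rep.ne (S := 1) (v := []) (by decide +kernel))

theorem only {u : H} (hu : u * ev h gw = ev h gw * u) (u2 : u * u = 1) :
    u = 1 ∨ u = h 0 * h 0 := by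
  have gK : ev h gw ∈ K := memK (by decide +kernel)
  have : Fact (Nat.Prime 11) := ⟨by norm_num⟩
  let q := QuotientGroup.mk' (Subgroup.center K)
  have h1 : orderOf (q ⟨_, gK⟩) = 11 := by
    refine orderOf_eq_prime ?_ fun e => ?_
    · rw [← map_pow, show (⟨_, gK⟩ : K) ^ 11 = 1 from Subtype.ext (ord11 ▸ pow_orderOf_eq_one _), map_one]
    · have := orderOf_dvd_of_pow_eq_one (show ev h gw ^ 2 = 1 by
        rcases zK ((QuotientGroup.eq_one_iff _).mp e) with e | e <;> rw [show ev h gw = _ from e]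
        exacts [one_pow 2, x4 presH.sat])
      rw [ord11] at this
      omega
  by_cases c : u ∈ K
  · refine zK (a := ⟨u, c⟩) ((QuotientGroup.eq_one_iff _).mp
      ((hsQ.1 _ (q ⟨u, c⟩) h1).1 ?_ ?_))
    · rw [← map_inv, ← map_mul, ← map_mul]
      exact congrArg q (Subtype.ext (mul_inv_eq_iff_eq_mul.mpr hu))
    · rw [← map_mul, show (⟨u, c⟩ * ⟨u, c⟩ : K) = 1 from Subtype.ext u2, map_one]
  · have vK : ev h vw ∉ K := by
      rw [K_eq, MonoidHom.mem_ker, sg_ev (by decide)]
      decide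
    have h2 := sat11 (vw ++ gw ++ vw ++ gw) (by simp)
    have h3 := sat11 (vw ++ vw) (by simp)
    simp only [ev_append] at h2 h3
    refine ((hsQ.1 _ (q ⟨ev h vw * u, (Subgroup.mul_mem_iff_of_index_two indexK).mpr
      (iff_of_false vK c)⟩) h1).2 ?_).elim
    rw [← map_inv, ← map_mul, ← map_mul, ← map_inv]
    refine congrArg q (Subtype.ext ?_)
    change ev h vw * u * ev h gw * (ev h vw * u)⁻¹ = (ev h gw)⁻¹
    rw [mul_assoc _ u, hu, mul_inv_rev, inv_eq_of_mul_eq_one_right h3, ← eq_inv_of_mul_eq_one_left h2]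
    simp [mul_assoc]

theorem conj_c (β : MulAut G) : ∃ g : G, (MulAut.conj g * β) cc = cc := by
  have : Fact (Nat.Prime 11) := ⟨by norm_num⟩
  have hf : (Nat.card G).factorization 11 = 1 := by
    rw [card, show 273030912000000 = 11 * 24820992000000 from rfl,
      Nat.factorization_mul (by norm_num) (by norm_num)]
    simp [Nat.Prime.factorization (by norm_num : Nat.Prime 11),
      Nat.factorization_eq_zero_of_not_dvd (by norm_num : ¬ 11 ∣ 24820992000000)]
  have ha : orderOf (io (ev h gw)) = 11 := by rw [orderOf_injective io io_inj, ord11]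
  set a := io (ev h gw)
  let P := Sylow.ofCard (p := 11) (Subgroup.zpowers a) (by rw [Nat.card_zpowers, ha, hf, pow_one])
  let P' := Sylow.ofCard (p := 11) (Subgroup.zpowers (β a))
    (by rw [Nat.card_zpowers, MulEquiv.orderOf_eq, ha, hf, pow_one])
  obtain ⟨g, hg⟩ := MulAction.exists_smul_eq G P P'
  obtain ⟨k, hk⟩ : g * a * g⁻¹ ∈ Subgroup.zpowers (β a) := by
    have : (MulAut.conj g) • a ∈ ((g • P : Sylow 11 G) : Subgroup G) :=
      Subgroup.smul_mem_pointwise_smul _ _ _ (Subgroup.mem_zpowers _)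
    rwa [hg] at this
  have c2 : cc * cc = 1 := by rw [cc, ← map_mul, x22, map_one]
  have h1 : Commute (β cc) (g * a * g⁻¹) :=
    hk ▸ ((show Commute a cc from cc_comm _).symm.map β).zpow_right k
  obtain ⟨g', e⟩ := inv_conj (c := cc) (d := g⁻¹ * β cc * g) (Subgroup.centralizer {a})
    (Subgroup.mem_centralizer_singleton_iff.mpr (cc_comm _).symm)
    (Subgroup.mem_centralizer_singleton_iff.mpr (by
      calc _ = g⁻¹ * (β cc * (g * a * g⁻¹)) * g := by group
        _ = _ := by rw [h1.eq]; group)) c2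
    (by calc _ = g⁻¹ * (β cc * β cc) * g := by group
          _ = _ := by rw [← map_mul, c2]; simp)
    (fun e => x2_ne (io_inj (β.injective (by
      rw [map_one, map_one, ← cc, ← mul_inv_cancel_left g (β cc), eq_inv_of_mul_eq_one_left e,
        mul_inv_cancel]))))
    fun e he h2 h3 => by
      obtain ⟨u, rfl⟩ := cenC h2
      refine (only (u := u) (io_inj ?_) (io_inj ?_)).imp (fun e => by rw [e, map_one]) fun e => by rw [e, cc]
      · rw [map_mul, map_mul]; exact Subgroup.mem_centralizer_singleton_iff.mp he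
      · rw [map_mul, h3, map_one]
  exact ⟨g' * g⁻¹, Eq.trans (by simp [mul_assoc]) e⟩

theorem restr {β : MulAut G} (hβ : β cc = cc) (k : H) : β (io k) ∈ io.range :=
  cenC (by rw [← hβ, ← map_mul, cc_comm, map_mul, hβ])

theorem fixK {β : MulAut G} (hβ : β cc = cc) :
    ∃ g : G, ∀ a ∈ K, (MulAut.conj g * β) (io a) = io a := by
  let b : H →* H := (MonoidHom.ofInjective io_inj).symm.toMonoidHom.comp
    (((β : G →* G).comp io).codRestrict _ (restr hβ))
  have h1 : ∀ k, io (b k) = β (io k) := fun k =>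
    MonoidHom.apply_ofInjective_symm io_inj _
  have h2 : ∀ a : K, (b.comp K.subtype) a ∈ K := fun a => by
    refine K_eq.ge ?_
    exact Abelianization.commutator_subset_ker (sg.comp (b.comp K.subtype))
      Group.IsPerfect.mem_commutator
  have h3 : Function.Injective ((b.comp K.subtype).codRestrict K h2) := fun x y e =>
    Subtype.ext (io_inj (β.injective (by
      rw [← h1, ← h1]; exact congrArg (fun x : K => io x) e)))
  obtain ⟨k, hk⟩ := out_lift hsQ.2 (ζ := MulAut.conjNormal (h 4)) (fun k e => by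
    have := cenKH (g := (k : H)⁻¹ * h 4) fun a ha => by
      have := congrArg Subtype.val (DFunLike.congr_fun e ⟨a, ha⟩)
      simp only [MulAut.conj_apply, Subgroup.coe_mul, Subgroup.coe_inv, MulAut.conjNormal_apply] at this
      calc _ = (k : H)⁻¹ * (h 4 * a * (h 4)⁻¹) * h 4 := by group
        _ = _ := by rw [← this]; group
    refine z_not ?_
    rw [← mul_inv_cancel_left (k : H) (h 4)]
    rcases this with e | e <;> rw [e]
    exacts [mul_mem k.2 (one_mem _), mul_mem k.2 (mul_mem xK xK)])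
    (MulEquiv.ofBijective _ (Finite.injective_iff_bijective.mp h3))
  have h4 : ∃ g : H, ∀ a ∈ K, b a = g * a * g⁻¹ := by
    rcases hk with e | e
    · exact ⟨k, fun a ha => congrArg Subtype.val (DFunLike.congr_fun e (⟨a, ha⟩ : K))⟩
    · refine ⟨k * h 4, fun a ha => (congrArg Subtype.val (DFunLike.congr_fun e (⟨a, ha⟩ : K))).trans ?_⟩
      simp [mul_assoc]
  obtain ⟨g, hg⟩ := h4
  exact ⟨(io g)⁻¹, fun a ha => by simp [← h1, hg a ha, mul_assoc]⟩

theorem fixZ {β : MulAut G} (hβ : ∀ a ∈ K, β (io a) = io a) :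
    β (io (h 4)) = io (h 4) ∨ β (io (h 4)) = io (h 4) * cc := by
  obtain ⟨z, hz⟩ := restr (hβ _ (mul_mem xK xK)) (h 4)
  have := cenKH (g := (h 4)⁻¹ * z) fun a ha => by
    have h1 := hβ _ ((inferInstance : K.Normal).conj_mem a ha (h 4))
    rw [map_mul, map_mul, map_mul, map_mul, map_inv, map_inv, hβ a ha, ← hz, ← map_inv, ← map_inv,
      ← map_mul, ← map_mul, ← map_mul, ← map_mul] at h1
    calc _ = (h 4)⁻¹ * (z * a * z⁻¹) * z := by group
      _ = _ := by rw [io_inj h1]; group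
  rw [← hz, ← mul_inv_cancel_left (h 4) z, cc, ← map_mul]
  exact this.imp (fun e => by rw [e, mul_one]) fun e => by rw [e]

end Cfsg.Agent.DCE.HN
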