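import Cfsg.Agent.DCE.HN.Out1

set_option autoImplicit false
set_option maxRecDepth 100000

namespace Cfsg.Agent.DCE.HN
open Cfsg.Agent.Comp Cfsg.Agent.DCE Cfsg.Agent.H2.Schur

def DAl : List (List Nat × List (Nat × Nat × Nat × Nat)) :=
  [([7, 7, 6, 6], []),
   ([6, 6, 7, 7], []),
   ([7, 7, 7, 7, 7, 7, 7, 7, 7, 7], [(0, 18, 0, 0), (0, 18, 0, 0)]),
   ([1, 7, 7, 0, 7, 7, 7, 7], [(2, 19, 0, 2), (0, 19, 0, 3)]),
   ([6, 6, 3, 7, 7, 2], [(1, 20, 0, 1), (0, 20, 0, 1)]),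
   ([1, 4, 0, 1, 1, 5], [(3, 14, 0, 0), (1, 14, 1, 0), (0, 15, 0, 0), (0, 14, 1, 0)]),
   ([4, 0, 0, 7, 7, 4, 0, 0, 7, 7, 4, 0, 0, 7, 7], [(12, 19, 0, 1), (7, 19, 0, 1), (8, 36, 0, 1), (2, 19, 0, 1), (3, 36, 0, 1), (2, 21, 1, 1), (0, 36, 0, 0)])]

def DC1 : List (List Nat × List (Nat × Nat × Nat × Nat)) :=
  [([1, 4, 0, 1, 1, 5], [(3, 14, 0, 0), (1, 14, 1, 0), (0, 15, 0, 0), (0, 14, 1, 0)]),
   ([0, 0, 4, 1, 1, 5], [(3, 22, 0, 0), (1, 15, 1, 1), (1, 14, 0, 0), (0, 15, 1, 1), (0, 14, 0, 0)]),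
   ([4, 0, 0, 6, 4, 0, 0, 6, 4, 0, 0, 6], [(0, 33, 0, 0), (4, 33, 0, 0), (3, 26, 0, 1), (1, 32, 0, 1), (0, 32, 0, 1), (4, 32, 0, 0), (3, 26, 0, 4), (2, 33, 1, 4), (1, 26, 1, 3), (0, 33, 1, 4), (0, 22, 0, 0), (7, 14, 1, 0), (4, 14, 1, 0), (2, 14, 1, 0), (7, 14, 0, 0), (0, 22, 1, 0), (0, 32, 1, 3), (0, 33, 1, 2), (4, 14, 0, 0), (7, 14, 1, 0), (0, 33, 0, 4), (0, 32, 0, 3), (0, 33, 1, 3), (4, 14, 1, 0), (0, 14, 0, 0), (1, 26, 0, 3), (2, 22, 0, 0), (4, 14, 0, 0), (3, 32, 0, 1), (4, 26, 1, 1), (6, 33, 1, 2), (7, 32, 1, 1), (8, 14, 0, 0), (6, 33, 1, 0), (7, 22, 1, 0), (7, 26, 0, 3), (6, 14, 1, 0), (8, 22, 0, 0), (3, 14, 1, 0), (6, 14, 0, 0), (0, 14, 1, 0), (7, 26, 1, 0), (6, 33, 0, 0), (7, 32, 0, 1), (0, 14, 0, 0), (6, 33, 1, 5), (4, 26, 0, 5), (2, 33, 0, 4), (2, 32, 1, 2), (0, 14, 1, 0), (2, 33, 1, 1), (4, 14, 0, 0), (3, 32, 0, 1), (4, 26, 1, 1), (3, 31, 1, 0), (1, 26, 1, 0), (2, 32, 0,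 2), (0, 14, 0, 0)]),
   ([4, 7, 4, 7, 4, 7], [(4, 14, 1, 0), (3, 21, 0, 0), (2, 14, 1, 0), (0, 14, 1, 0)]),
   ([1, 1, 6, 4, 6, 6, 4, 7], [(0, 22, 0, 0), (2, 21, 1, 1), (2, 14, 0, 0), (4, 14, 0, 0), (6, 14, 1, 0), (2, 14, 1, 0), (0, 22, 1, 0), (6, 14, 0, 0), (4, 21, 1, 0), (0, 22, 0, 0), (5, 14, 0, 0), (2, 14, 0, 0), (0, 22, 1, 0), (4, 35, 1, 1), (0, 33, 0, 2), (1, 22, 0, 0), (1, 26, 1, 5), (4, 14, 0, 0), (6, 14, 0, 0), (4, 21, 1, 0), (2, 22, 1, 0), (5, 14, 0, 0), (2, 26, 1, 2), (3, 22, 0, 0), (3, 33, 1, 0), (4, 26, 1, 5), (2, 21, 1, 1), (2, 14, 0, 0), (4, 33, 1, 1), (6, 14, 0, 0), (4, 22, 1, 0), (3, 26, 1, 3), (6, 14, 1, 0), (2, 14, 1, 0), (3, 26, 0, 3), (2, 34, 0, 1), (1, 26, 0, 1), (0, 33, 0, 0), (2, 14, 1, 0), (0, 22, 1, 0)]),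
   ([6, 6, 6, 6], [(0, 36, 1, 4), (0, 14, 0, 0), (5, 14, 0, 0), (1, 36, 0, 3), (0, 14, 1, 0), (3, 36, 1, 5), (0, 36, 1, 4), (2, 22, 1, 0), (0, 14, 0, 0)]),
   ([6], [(0, 37, 1, 0), (0, 18, 0, 0), (0, 37, 1, 0), (0, 18, 0, 0), (0, 37, 1, 0), (0, 18, 0, 0), (0, 37, 1, 0)])]

def DC3 : List (List Nat × List (Nat × Nat × Nat × Nat)) :=
  [([0, 0, 4, 1, 1, 5], [(3, 22, 0, 0), (1, 15, 1, 1), (1, 14, 0, 0), (0, 15, 1, 1), (0, 14, 0, 0)]),
   ([1, 1, 4, 0, 0, 5], [(0, 32, 0, 2)]),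
   ([4, 0, 6, 1, 4, 0, 6, 1, 4, 0, 6, 1], [(8, 33, 0, 0), (5, 31, 1, 5), (4, 33, 0, 0), (0, 33, 0, 0)])]

theorem satR : Sat s (R ++ [[0, 0, 0, 0]] ++ DT.map Prod.fst) :=
  (pres.sat.append ((satB satH).mono (by decide +kernel))).append satT

theorem not1 : ev s [4, 0, 6, 1, 4, 0, 6, 1, 4, 0, 6, 1] ≠ 1 := fun e => by
  have := sat_der (L := 8) (iv := iv) (satR.append (List.forall_mem_singleton.mpr e)) DC1
    (by decide +kernel) [6] (by decide +kernel)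
  exact t_not (ev_single s 6 ▸ this ▸ one_mem _)

theorem not3 : ev s [4, 0, 0, 0, 6, 1, 1, 1, 4, 0, 0, 0, 6, 1, 1, 1, 4, 0, 0, 0, 6, 1, 1, 1] ≠ 1 :=
  fun e => not1 (sat_der (L := 8) (iv := iv) (satR.append (List.forall_mem_singleton.mpr e)) DC3
    (by decide +kernel) _ (by decide +kernel))

theorem U_le_St {g : G} (hg : Cm0 io phi g) : U ≤ St io g := fun u hu =>
  mem_St.mpr (by rw [← hg u ((memU u).mp hu), mul_inv_cancel_right]; exact ⟨u, rfl⟩)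

theorem indexU : U.index = 1408 := by
  have := U.card_mul_index
  rw [cardU, cardH.2.1] at this
  omega

theorem w1_eq : w 1 = s 6 := by simp [w, w1, w0]

theorem St_t : St io (s 6) = U := by
  have h1 := (St io (s 6)).card_mul_index
  rw [sizes (i := 1) (by norm_num) (k := 1) (by rw [w1_eq, map_one, mul_one]), cardH.2.1] at h1
  refine (Subgroup.eq_of_le_of_card_ge (U_le_St cm) ?_).symm
  rw [cardU]
  simp only [List.getD_cons_succ, List.getD_cons_zero] at h1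
  omega

theorem shape {g : G} (hg : Cm0 io phi g) (h0 : g ∉ io.range) :
    ∃ i < 4, ∃ b, g = io (h 0) ^ i * (io b * s 6) * (io (h 0) ^ i)⁻¹ := by
  obtain ⟨i, hi, k, e⟩ := closed.cover g
  have h1 := Subgroup.index_dvd_of_le (U_le_St hg)
  rw [sizes hi e, indexU] at h1
  obtain rfl | rfl : i = 0 ∨ i = 1 := by
    interval_cases i <;> simp at h1 ⊢
  · rw [cs_eq, closed.w0, one_mul] at e
    exact (h0 (by simpa using mul_mem e (⟨k, rfl⟩ : io k ∈ io.range))).elim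
  rw [cs_eq, w1_eq] at e
  obtain ⟨a, e⟩ := e
  replace e := (eq_mul_inv_iff_mul_eq.mp e).symm
  obtain ⟨i, hi, e1⟩ := fixU (Bd.lt (rep.bd k⁻¹) (by norm_num : 0 < 1408)) fun u hu => by
    have h2 : k * u * k⁻¹ ∈ St io (s 6) := mem_St.mpr ⟨a⁻¹ * u * a, by
      have := hg u hu
      rw [e] at this
      simp only [map_mul, map_inv]
      calc _ = (io a)⁻¹ * (io u * (io a * (s 6 * io k))) * (io k)⁻¹ * (s 6)⁻¹ := by group
        _ = _ := by rw [this]; group⟩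
    rw [St_t, memU] at h2
    rw [← Equiv.Perm.mul_apply, ← map_mul, show u * k⁻¹ = k⁻¹ * (k * u * k⁻¹) by group, map_mul,
      Equiv.Perm.mul_apply, h2]
  have h2 := cm _ (fix_of_eq e1)
  refine ⟨i, hi, (h 0 ^ i)⁻¹ * a * (k * h 0 ^ i), ?_⟩
  rw [inv_inv] at h2
  rw [map_mul io _ (k * _), mul_assoc _ (io (k * _)), h2, e]
  simp [mul_assoc]

theorem inner {β : MulAut G} (hβ : ∀ k, β (io k) = io k) : ∃ g, MulAut.conj g = β := by
  have ext : ∀ g, (∀ k, io k * g = g * io k) → β (s 6) = g * s 6 * g⁻¹ → ∃ g, MulAut.conj g = β :=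
    fun g h1 h2 => ⟨g, MulEquiv.ext fun x => (genK
      ((MulAut.conj g).toMonoidHom.eqLocus β.toMonoidHom) (by
        rintro _ ⟨k, rfl⟩
        exact (mul_inv_eq_iff_eq_mul.mpr (h1 k).symm).trans (hβ k).symm) h2.symm).ge
          (Subgroup.mem_top x)⟩
  obtain ⟨i, hi, b, e⟩ := shape (g := β (s 6)) (fun u hu => by
    rw [← hβ u, ← map_mul, cm u hu, map_mul]) fun ⟨k, e⟩ => t_not ⟨k, β.injective ((hβ k).trans e)⟩
  have c1 : cc * s 6 * cc⁻¹ = (s 6)⁻¹ := by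
    rw [tinv, cc]; simp [(inv1 presH.sat).1]
  have t5 : s 6 ^ 5 = 1 := by simpa [pow_succ, mul_assoc] using pres.sat [6, 6, 6, 6, 6] (by decide)
  have h1 : cc * (io b * s 6) * cc⁻¹ = (io b * s 6)⁻¹ := by
    have e1 := congrArg β c1
    have e2 := cc_comm (h 0 ^ i)
    rw [map_mul, map_mul, map_inv, map_inv, show β cc = cc from hβ _, e] at e1
    rw [map_pow] at e2
    calc _ = (io (h 0) ^ i)⁻¹ * (io (h 0) ^ i * cc * (io b * s 6) * (io (h 0) ^ i * cc)⁻¹) *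
          io (h 0) ^ i := by group
      _ = (io (h 0) ^ i)⁻¹ * (cc * (io (h 0) ^ i * (io b * s 6) * (io (h 0) ^ i)⁻¹) * cc⁻¹) *
          io (h 0) ^ i := by rw [e2]; group
      _ = _ := by rw [e1]; group
  have h2 : s 6 * io b * (s 6)⁻¹ = io b⁻¹ := by
    rw [← mul_assoc, ← cc_comm, mul_assoc, mul_assoc, ← mul_assoc cc, c1] at h1
    rw [mul_assoc, h1, map_inv]; group
  have h3 : Commute (io b) (s 6) := cm b ((memU b).mp (St_t ▸ mem_St.mpr ⟨_, h2.symm⟩))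
  have h4 : io b = 1 := by
    have e1 := congrArg β t5
    rw [map_pow, e, conj_pow, h3.mul_pow, t5, mul_one, map_one, mul_inv_eq_one, mul_eq_left] at e1
    rw [← h3.eq, mul_inv_cancel_right, map_inv, eq_inv_iff_mul_eq_one, ← pow_two] at h2
    exact (pow_eq_one_iff_of_coprime (by norm_num : Nat.Coprime 2 5)).mp ⟨h2, e1⟩
  have h5 : (s 4 * β (s 6)) ^ 3 = 1 := by
    rw [← io_h 4 (by norm_num), ← hβ, ← map_mul, ← map_pow, io_h 4 (by norm_num), map_eq_one_iff β β.injective]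
    simpa [pow_succ, mul_assoc] using pres.sat [4, 6, 4, 6, 4, 6] (by decide)
  rw [h4, one_mul] at e
  rw [e, io_h 0 (by norm_num)] at h5
  interval_cases i
  · exact ext 1 (by simp) (by simpa using e)
  · exact (not1 (by simpa [pow_succ, mul_assoc, (inv1 satH).1] using h5)).elim
  · exact ext cc cc_comm (by rw [e, cc, map_mul, pow_two])
  · exact (not3 (by simpa [pow_succ, mul_assoc, (inv1 satH).1] using h5)).elim

def twA' : List (List ℕ) := [[0], [1], [2], [3], [4, 0, 0], [1, 1, 5], [7, 7], [6, 6]]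

theorem exists_aut : ∃ α : MulAut G, (∀ a ∈ K, α (io a) = io a) ∧ α (io (h 4)) = io (h 4) * cc := by
  have := simple
  have h1 : Sat s (RH.map (subst twA')) := fun w hw => by
    rw [← io_ev ((by decide +kernel : ∀ w ∈ RH.map (subst twA'), ltB 6 w = true) w hw),
      satW (RH.map (subst twA')) (by decide +kernel) w hw, map_one]
  obtain ⟨α, hα⟩ := pres.aut hR (fun _ _ => rfl) (tw := twA')
    ((h1.append (sat_der (L := 8) (iv := iv) satR DAl (by decide +kernel))).mono (by decide +kernel))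
    (by norm_num) fun e => x2_ne (io_inj (by
      rw [map_mul, io_h 0 (by norm_num), show s 0 = 1 by simpa [twA'] using e, mul_one, map_one]))
  refine ⟨α, fun a ha => ?_, ?_⟩
  · refine (gen_le (K := (α.toMonoidHom.comp io).eqLocus io)).mpr (fun x hx => ?_) ha
    have h2 : ∀ x < 8, (ltB 6 (twK.getD x []) && ltB 8 (twK.getD x []) &&
      ltB 6 (subst twA' (twK.getD x []))) = true := by decide +kernel
    have h3 := h2 x hx
    simp only [Bool.and_eq_true] at h3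
    change α (io _) = io _
    rw [io_ev h3.1.1, hα _ h3.1.2, ← io_ev h3.2, ← io_ev h3.1.1]
    exact congrArg io (rep.eqB cardH.2.2 base (E := (List.range 8).map fun x =>
      (subst twA' (twK.getD x []), twK.getD x [])) (by decide +kernel) _
      (List.mem_map_of_mem (List.mem_range.mpr hx)))
  · have := hα [4] (by decide)
    rw [ev_single, show subst twA' [4] = [4, 0, 0] from rfl] at this
    simpa [cc, io_h] using this

theorem card_out : Nat.card (Out G) = 2 := by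
  obtain ⟨α, h1, h2⟩ := exists_aut
  have h0 : ∀ (g : G) (β : MulAut G), ((MulAut.conj g * β : MulAut G) : Out G) = β := fun g β => by
    rw [QuotientGroup.mk_mul, (QuotientGroup.eq_one_iff (N := Inn _) (MulAut.conj g)).2 ⟨g, rfl⟩,
      one_mul]
  have h3 : ∀ β γ : MulAut G, (∀ a ∈ K, β (io a) = io a) → (∀ a ∈ K, γ (io a) = io a) →
      β (io (h 4)) = γ (io (h 4)) → (γ : Out G) = β := fun β γ hβ hγ e =>
    QuotientGroup.eq.mpr (inner fun k => by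
      rw [MulAut.mul_apply, MulAut.inv_apply, MulEquiv.symm_apply_eq]
      by_cases c : k ∈ K
      · rw [hβ k c, hγ k c]
      · have := (Subgroup.mul_mem_iff_of_index_two indexK).mpr (iff_of_false c (mt inv_mem_iff.mp z_not))
        rw [← inv_mul_cancel_right k (h 4), map_mul io, map_mul β, map_mul γ, hβ _ this, hγ _ this, e])
  refine Leech.card_out_two α (fun g e => ?_) fun φ => ?_
  · subst e
    obtain ⟨k, rfl⟩ := cenC (mul_inv_eq_iff_eq_mul.mp (h1 _ (mul_mem xK xK)))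
    have h4 : io (h 4) * io k = io k * io (h 4) := by
      rcases cenKH (g := k) fun a ha => io_inj (by
        rw [map_mul, map_mul]; exact mul_inv_eq_iff_eq_mul.mp (h1 a ha)) with rfl | rfl
      exacts [by simp, cc_comm _]
    rw [MulAut.conj_apply, ← h4, mul_inv_cancel_right, left_eq_mul, cc, map_eq_one_iff io io_inj] at h2
    exact x2_ne h2
  · obtain ⟨g, e1⟩ := conj_c φ
    obtain ⟨g', e2⟩ := fixK e1
    rw [← h0 g, ← h0 g']
    exact (fixZ e2).imp (fun e => (h3 _ 1 e2 (fun _ _ => rfl) e).symm)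
      fun e => (h3 _ α e2 h1 (e.trans h2.symm)).symm

end Cfsg.Agent.DCE.HN
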