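import Cfsg.Agent.Comp.Cox
import Cfsg.Agent.Comp.OutSub
import Cfsg.Prelude.Def_Spor_HN

set_option autoImplicit false
set_option maxRecDepth 100000

namespace Cfsg.Agent.DCE.HN
open Cfsg.Agent.Comp

/-- the group -/
abbrev G : Type := Cfsg.Spor.HN

def R : List (List Nat) :=
  [[0, 1],
   [1, 0],
   [2, 3],
   [3, 2],
   [4, 5],
   [5, 4],
   [6, 7],
   [7, 6],
   [2, 2, 2, 2, 2, 2],
   [0, 0, 2, 0, 0, 3],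
   [1, 3, 0, 2, 1, 3, 0, 2, 1, 3, 0, 2],
   [1, 2, 2, 0, 2, 2, 2, 1, 2, 2, 0, 2, 2, 2, 1, 2, 2, 0, 2, 2, 2],
   [0, 2, 0, 2, 0, 2, 0, 2, 0, 2, 0, 2, 0, 2, 0, 2],
   [0, 2, 0, 2, 2, 2, 0, 2, 0, 2, 2, 2, 0, 2, 0, 2, 2, 2, 0, 2, 0, 2, 2, 2],
   [4, 4],
   [4, 0, 4, 0],
   [5, 2, 1, 3, 3, 1, 3, 1, 3, 4, 2, 0, 2, 0, 2, 2, 0, 3, 1, 1],
   [4, 3, 1, 3, 1, 3, 3, 3, 4, 2, 2, 2, 0, 2, 0, 2, 0, 3, 1, 3, 1, 3, 3, 3, 4, 2, 2, 2, 0, 2, 0, 2, 0, 3, 1, 3, 1, 3, 3, 3, 4, 2, 2, 2, 0, 2, 0, 2, 0],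
   [6, 6, 6, 6, 6],
   [1, 6, 0, 6, 6],
   [7, 3, 6, 2],
   [4, 6, 4, 6, 4, 6]]

def lt : List (Cfsg.Spor.HN.Gen × Bool) := [(.x, true), (.x, false), (.y, true), (.y, false), (.z, true), (.z, false), (.t, true), (.t, false)]

def all : List Cfsg.Spor.HN.Gen := [.x, .y, .z, .t]

def e : Cfsg.Spor.HN.Gen → Nat
  | .x => 0
  | .y => 2
  | .z => 4
  | .t => 6

def iv : Nat := 325669255973889

/-- the letters -/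
noncomputable def s : ℕ → Cfsg.Spor.HN := coxS Cfsg.Spor.HN.edges Cfsg.Spor.HN.extra lt

theorem presAll : IsPres s 8 R ∧ (∀ x, s (e x) = PresentedGroup.of x) ∧
    ∀ r, PresentedGroup.mk _ r = ev s (freeWord e iv r) :=
  isPres_cox (all := all) (by intro x; cases x <;> decide) (by decide +kernel)

theorem pres : IsPres s 8 R := presAll.1

theorem hR : ∀ w ∈ R, ∀ x ∈ w, x < 8 := by decide +kernel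

def RH : List (List Nat) :=
  [[0, 1],
   [1, 0],
   [2, 3],
   [3, 2],
   [4, 5],
   [5, 4],
   [2, 2, 2, 2, 2, 2],
   [0, 0, 2, 0, 0, 3],
   [1, 3, 0, 2, 1, 3, 0, 2, 1, 3, 0, 2],
   [1, 2, 2, 0, 2, 2, 2, 1, 2, 2, 0, 2, 2, 2, 1, 2, 2, 0, 2, 2, 2],
   [0, 2, 0, 2, 0, 2, 0, 2, 0, 2, 0, 2, 0, 2, 0, 2],
   [0, 2, 0, 2, 2, 2, 0, 2, 0, 2, 2, 2, 0, 2, 0, 2, 2, 2, 0, 2, 0, 2, 2, 2],
   [4, 4],
   [4, 0, 4, 0],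
   [5, 2, 1, 3, 3, 1, 3, 1, 3, 4, 2, 0, 2, 0, 2, 2, 0, 3, 1, 1],
   [4, 3, 1, 3, 1, 3, 3, 3, 4, 2, 2, 2, 0, 2, 0, 2, 0, 3, 1, 3, 1, 3, 3, 3, 4, 2, 2, 2, 0, 2, 0, 2, 0, 3, 1, 3, 1, 3, 3, 3, 4, 2, 2, 2, 0, 2, 0, 2, 0]]

theorem hRH : ∀ w ∈ RH, ∀ x ∈ w, x < 6 := by decide +kernel

def iv6 : Nat := 247100148737

/-- the group of the relators without `t` -/
abbrev H : Type := Pres 6 RH

/-- its letters -/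
def h : ℕ → H := presS 6 RH

theorem presH : IsPres h 6 RH := isPres_pres hRH

def RP : List (List Nat) :=
  [[0, 1],
   [1, 0],
   [2, 3],
   [3, 2],
   [2, 2, 2, 2, 2, 2],
   [0, 0, 2, 0, 0, 3],
   [1, 3, 0, 2, 1, 3, 0, 2, 1, 3, 0, 2],
   [1, 2, 2, 0, 2, 2, 2, 1, 2, 2, 0, 2, 2, 2, 1, 2, 2, 0, 2, 2, 2],
   [0, 2, 0, 2, 0, 2, 0, 2, 0, 2, 0, 2, 0, 2, 0, 2],
   [0, 2, 0, 2, 2, 2, 0, 2, 0, 2, 2, 2, 0, 2, 0, 2, 2, 2, 0, 2, 0, 2, 2, 2],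
   [0, 0]]

theorem hRP : ∀ w ∈ RP, ∀ x ∈ w, x < 4 := by decide +kernel

/-- the group of the relators in `x, y` with `x ^ 2 = 1` -/
abbrev P : Type := Pres 4 RP

/-- its letters -/
def p : ℕ → P := presS 4 RP

theorem presP : IsPres p 4 RP := isPres_pres hRP

end Cfsg.Agent.DCE.HN
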