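import Cfsg.Agent.DCE.HN.Cert

set_option autoImplicit false
set_option maxRecDepth 100000

namespace Cfsg.Agent.DCE.HN
open Cfsg.Agent.Comp Cfsg.Agent.DCE

def l0 : List (Nat × Nat) := [(0, 1)]

theorem nb0 : NbL io phi (s 6) w (w 0) l0 :=
  (ctx.cons e0 (by decide +kernel) NbL.nil)

theorem row0 : Row io phi (s 6) 1408 9 w (w 0) [(1, 1408)] :=
  ctx.row (lg := 11) (by norm_num) (SWL.base [[0], [2], [4]]) nb0
    [([0, 2, 0, 1, 0, 1, 2, 1, 0, 1, 2, 1, 0, 1, 2, 1, 0, 1, 2], 1, 1408)]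
    (by decide +kernel)

def l1 : List (Nat × Nat) := [(0, 1), (1, 1), (2, 1), (3, 2), (4, 1), (5, 0), (44, 3), (45, 2), (173, 4), (172, 2), (410, 5)]

theorem nb1 : NbL io phi (s 6) w (w 1) l1 :=
  (ctx.cons b2 (by decide +kernel) (ctx.cons e2 (by decide +kernel) (ctx.cons e3 (by decide +kernel) (ctx.cons e4 (by decide +kernel) (ctx.cons e1 (by decide +kernel) (ctx.cons b0 (by decide +kernel) (ctx.cons e8 (by decide +kernel) (ctx.cons e5 (by decide +kernel) (ctx.cons e12 (by decide +kernel) (ctx.cons e17 (by decide +kernel) (ctx.cons e26 (by decide +kernel) NbL.nil)))))))))))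

theorem row1 : Row io phi (s 6) 1408 9 w (w 1) [(0, 1), (1, 53), (2, 450), (3, 50), (4, 350), (5, 504)] :=
  ctx.row (lg := 11) (by norm_num) (SWL.cons a0 (SWL.cons a1 SWL.nil)) nb1
    [([], 0, 1),
     ([0, 0, 0, 1, 0, 0, 0, 1, 0, 0, 1, 0, 0], 1, 53),
     ([0, 0, 0, 1, 0, 0, 1, 0, 0, 0, 1, 0, 0, 0, 1, 0, 0, 0, 1, 0, 0], 2, 450),
     ([0, 0, 0, 1, 0, 0, 0, 1, 0, 0, 1, 0, 0], 3, 50),
     ([0, 0, 0, 1, 0, 0, 0, 1, 0, 0, 1, 0, 0, 0, 1, 0, 0, 0, 1, 0, 0], 4, 350),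
     ([0, 0, 0, 1, 0, 0, 1, 0, 0, 0, 1, 0, 0, 1, 0, 0, 0, 1, 0, 0, 0], 5, 504)]
    (by decide +kernel)

def l2 : List (Nat × Nat) := [(44, 2), (2, 1), (5, 1), (45, 3), (6, 4), (172, 6), (987, 1), (943, 4), (173, 6), (265, 2), (15, 4), (494, 5), (1099, 6), (48, 2)]

theorem nb2 : NbL io phi (s 6) w (w 2) l2 :=
  (ctx.cons e7 (by decide +kernel) (ctx.cons b5 (by decide +kernel) (ctx.cons b4 (by decide +kernel) (ctx.cons e11 (by decide +kernel) (ctx.cons e15 (by decide +kernel) (ctx.cons e37 (by decide +kernel) (ctx.cons b17 (by decide +kernel) (ctx.cons e21 (by decide +kernel) (ctx.cons e38 (by decide +kernel) (ctx.cons e16 (by decide +kernel) (ctx.cons e14 (by decide +kernel) (ctx.cons e27 (by decide +kernel) (ctx.cons e40 (by decide +kernel) (ctx.cons e20 (by decide +kernel) NbL.nil))))))))))))))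

theorem row2 : Row io phi (s 6) 1408 9 w (w 2) [(1, 18), (2, 100), (3, 2), (4, 112), (5, 504), (6, 672)] :=
  ctx.row (lg := 11) (by norm_num) (SWL.cons a2 (SWL.cons a4 (SWL.cons a5 (SWL.cons a6 SWL.nil)))) nb2
    [([3, 0, 3, 1, 0, 2], 1, 18),
     ([3, 2, 3, 1, 3, 0, 3, 0, 3, 0, 2, 3], 2, 100),
     ([3], 3, 2),
     ([3, 0, 3, 1, 0, 3, 0, 3, 0, 3, 2, 3, 1, 0, 0], 4, 112),
     ([3, 0, 3, 1, 3, 0, 3, 1, 3, 0, 3, 2, 3, 0, 3, 0], 5, 504),
     ([3, 0, 3, 0, 3, 1, 3, 0, 3, 0, 3, 1, 3, 2, 3, 0, 3], 6, 672)]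
    (by decide +kernel)

def l3 : List (Nat × Nat) := [(5, 1), (1, 2), (6, 4), (7, 6)]

theorem nb3 : NbL io phi (s 6) w (w 3) l3 :=
  (ctx.cons b8 (by decide +kernel) (ctx.cons b11 (by decide +kernel) (ctx.cons e22 (by decide +kernel) (ctx.cons e36 (by decide +kernel) NbL.nil))))

theorem row3 : Row io phi (s 6) 1408 9 w (w 3) [(1, 32), (2, 32), (4, 672), (6, 672)] :=
  ctx.row (lg := 11) (by norm_num) (SWL.cons a9 (SWL.cons a10 (SWL.cons a18 SWL.nil))) nb3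
    [([1, 2, 0, 0, 2, 0, 0, 2], 1, 32),
     ([1, 2, 0, 0, 2, 0, 0, 2], 2, 32),
     ([1, 2, 0, 0, 2, 0, 0, 2, 0, 0, 2, 0, 2, 0, 2, 0, 0, 2, 0, 0, 2], 4, 672),
     ([1, 2, 0, 0, 2, 0, 0, 2, 0, 0, 2, 0, 2, 0, 2, 0, 0, 2, 0, 0, 2], 6, 672)]
    (by decide +kernel)

def l4 : List (Nat × Nat) := [(0, 2), (13, 2), (2, 3), (1074, 4), (4, 4), (5, 1), (6, 5), (796, 6), (44, 6), (265, 4), (1031, 6), (957, 2), (271, 5), (949, 6), (322, 7), (221, 6)]

theorem nb4 : NbL io phi (s 6) w (w 4) l4 :=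
  (ctx.cons b21 (by decide +kernel) (ctx.cons b14 (by decide +kernel) (ctx.cons b22 (by decide +kernel) (ctx.cons e24 (by decide +kernel) (ctx.cons e23 (by decide +kernel) (ctx.cons b12 (by decide +kernel) (ctx.cons e30 (by decide +kernel) (ctx.cons e43 (by decide +kernel) (ctx.cons e44 (by decide +kernel) (ctx.cons e25 (by decide +kernel) (ctx.cons e42 (by decide +kernel) (ctx.cons b15 (by decide +kernel) (ctx.cons e29 (by decide +kernel) (ctx.cons e41 (by decide +kernel) (ctx.cons e60 (by decide +kernel) (ctx.cons e45 (by decide +kernel) NbL.nil))))))))))))))))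

theorem row4 : Row io phi (s 6) 1408 9 w (w 4) [(1, 4), (2, 32), (3, 12), (4, 160), (5, 288), (6, 552), (7, 360)] :=
  ctx.row (lg := 11) (by norm_num) (SWL.cons a14 (SWL.cons a16 (SWL.cons a17 SWL.nil))) nb4
    [([2, 1], 1, 4),
     ([2, 1, 0, 2, 2, 0, 2, 2], 2, 32),
     ([0, 2, 1, 0, 2], 3, 12),
     ([2, 1, 0, 2, 2, 0, 2, 0, 2, 0, 2, 0, 2, 2], 4, 160),
     ([0, 2, 1, 0, 2, 2, 0, 2, 0, 2, 0, 2, 0, 2, 2], 5, 288),
     ([2, 0, 1, 2, 0, 2, 2, 0, 2, 0, 2, 2, 0, 2, 2, 0], 6, 552),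
     ([0, 2, 1, 0, 2, 2, 0, 2, 0, 2, 0, 2, 0, 2, 2, 0, 2], 7, 360)]
    (by decide +kernel)

def l5 : List (Nat × Nat) := [(913, 5), (1, 5), (593, 2), (320, 5), (463, 5), (5, 1), (122, 4), (1163, 4), (134, 6), (103, 6), (934, 5), (83, 6), (254, 7), (608, 6), (877, 6), (367, 5)]

theorem nb5 : NbL io phi (s 6) w (w 5) l5 :=
  (ctx.cons b34 (by decide +kernel) (ctx.cons e34 (by decide +kernel) (ctx.cons b27 (by decide +kernel) (ctx.cons e31 (by decide +kernel) (ctx.cons e35 (by decide +kernel) (ctx.cons b26 (by decide +kernel) (ctx.cons b30 (by decide +kernel) (ctx.cons b29 (by decide +kernel) (ctx.cons e46 (by decide +kernel) (ctx.cons e47 (by decide +kernel) (ctx.cons e33 (by decide +kernel) (ctx.cons e48 (by decide +kernel) (ctx.cons e63 (by decide +kernel) (ctx.cons e49 (by decide +kernel) (ctx.cons e50 (by decide +kernel) (ctx.cons e32 (by decide +kernel) NbL.nil))))))))))))))))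

theorem row5 : Row io phi (s 6) 1408 9 w (w 5) [(1, 2), (2, 50), (4, 100), (5, 356), (6, 650), (7, 250)] :=
  ctx.row (lg := 11) (by norm_num) (SWL.cons a20 (SWL.cons a21 (SWL.cons a22 SWL.nil))) nb5
    [([2], 1, 2),
     ([1, 2, 0, 1, 2, 1, 0, 1], 2, 50),
     ([1, 2, 0, 1, 2, 1, 0, 1, 2], 4, 100),
     ([2, 1, 0, 1, 2, 1, 0, 1, 0, 2, 1, 0], 5, 356),
     ([1, 2, 0, 1, 2, 1, 0, 1, 2, 0, 1, 1, 1], 6, 650),
     ([1, 2, 0, 1, 2, 1, 0, 1, 0, 1, 0, 1, 1], 7, 250)]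
    (by decide +kernel)

def l6 : List (Nat × Nat) := [(0, 4), (1, 4), (2, 2), (3, 2), (4, 6), (5, 3), (84, 4), (23, 2), (8, 8), (147, 5), (116, 6), (949, 6), (15, 6), (321, 7), (285, 5), (372, 5), (110, 6), (174, 7), (146, 5), (44, 6), (261, 4), (47, 6), (706, 7), (126, 6), (284, 5), (213, 6), (454, 6), (981, 6), (432, 4), (787, 6)]

theorem nb6 : NbL io phi (s 6) w (w 6) l6 :=
  (ctx.cons b44 (by decide +kernel) (ctx.cons b41 (by decide +kernel) (ctx.cons b37 (by decide +kernel) (ctx.cons b38 (by decide +kernel) (ctx.cons e51 (by decide +kernel) (ctx.cons b36 (by decide +kernel) (ctx.cons b45 (by decide +kernel) (ctx.cons b40 (by decide +kernel) (ctx.cons e69 (by decide +kernel) (ctx.cons b47 (by decide +kernel) (ctx.cons e53 (by decide +kernel) (ctx.cons e52 (by decide +kernel) (ctx.cons e55 (by decide +kernel) (ctx.cons e64 (by decide +kernel) (ctx.cons b49 (by decide +kernel) (ctx.cons b50 (by decide +kernel)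 (ctx.cons e56 (by decide +kernel) (ctx.cons e65 (by decide +kernel) (ctx.cons b46 (by decide +kernel) (ctx.cons e54 (by decide +kernel) (ctx.cons b43 (by decide +kernel) (ctx.cons e57 (by decide +kernel) (ctx.cons e66 (by decide +kernel) (ctx.cons b52 (by decide +kernel) (ctx.cons b48 (by decide +kernel) (ctx.cons e58 (by decide +kernel) (ctx.cons e59 (by decide +kernel) (ctx.cons b58 (by decide +kernel) (ctx.cons b42 (by decide +kernel) (ctx.cons b59 (by decide +kernel) NbL.nil))))))))))))))))))))))))))))))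

theorem row6 : Row io phi (s 6) 1408 9 w (w 6) [(2, 32), (3, 2), (4, 92), (5, 312), (6, 720), (7, 240), (8, 10)] :=
  ctx.row (lg := 11) (by norm_num) (SWL.cons a23 (SWL.cons a24 (SWL.cons a25 (SWL.cons a26 SWL.nil)))) nb6
    [([3, 0, 1, 1, 2, 1], 2, 32),
     ([3], 3, 2),
     ([3, 1, 0, 1, 1, 2, 1, 1, 2], 4, 92),
     ([3, 1, 1, 0, 1, 2, 1, 1, 0, 1, 0], 5, 312),
     ([3, 1, 1, 0, 1, 2, 1, 1, 0, 1, 1, 0], 6, 720),
     ([3, 1, 1, 2, 1, 1, 2, 1, 1, 0, 1, 0], 7, 240),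
     ([3, 0, 1, 1, 2], 8, 10)]
    (by decide +kernel)

def l7 : List (Nat × Nat) := [(0, 6), (139, 6), (5, 4), (4, 7), (311, 5), (842, 6), (105, 7)]

theorem nb7 : NbL io phi (s 6) w (w 7) l7 :=
  (ctx.cons b65 (by decide +kernel) (ctx.cons b64 (by decide +kernel) (ctx.cons b60 (by decide +kernel) (ctx.cons e67 (by decide +kernel) (ctx.cons b63 (by decide +kernel) (ctx.cons b66 (by decide +kernel) (ctx.cons e68 (by decide +kernel) NbL.nil)))))))

theorem row7 : Row io phi (s 6) 1408 9 w (w 7) [(4, 160), (5, 320), (6, 640), (7, 288)] :=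
  ctx.row (lg := 11) (by norm_num) (SWL.cons a27 (SWL.cons a30 SWL.nil)) nb7
    [([1, 0, 1, 0, 1, 1, 0, 1, 1, 0, 1, 1, 1, 1, 1, 1, 1, 1, 1], 4, 160),
     ([0, 1, 0, 1, 0, 1, 1, 0, 1, 1, 0, 1, 1, 1, 1, 1, 1, 1, 1, 1], 5, 320),
     ([1, 0, 1, 0, 1, 1, 0, 1, 1, 0, 1, 1, 1, 1, 0, 1, 1, 1, 1, 1, 0], 6, 640),
     ([1, 0, 1, 0, 1, 0, 1, 0, 1, 1, 0, 1, 1, 1, 1, 1, 1, 1, 1, 1], 7, 288)]
    (by decide +kernel)

def l8 : List (Nat × Nat) := [(5, 6), (224, 8)]

theorem nb8 : NbL io phi (s 6) w (w 8) l8 :=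
  (ctx.cons b69 (by decide +kernel) (ctx.cons e73 (by decide +kernel) NbL.nil))

theorem row8 : Row io phi (s 6) 1408 9 w (w 8) [(6, 1280), (8, 128)] :=
  ctx.row (lg := 11) (by norm_num) (SWL.cons a32 (SWL.cons a36 SWL.nil)) nb8
    [([1, 0, 0, 1, 0, 0, 1, 0, 0, 1, 0, 0, 1, 0, 0, 1, 0, 0, 1, 0, 0, 1, 0, 0, 1, 0, 0, 1, 0, 0, 1, 0, 1, 0, 1, 0, 1], 6, 1280),
     ([1, 0, 0, 1, 0, 0, 1, 0, 0, 1, 0, 0, 1, 0, 0, 1, 0, 0, 1, 0, 1, 0, 1], 8, 128)]
    (by decide +kernel)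

def rows : List (List (Nat × Nat)) :=
  [[(1, 1408)],
   [(0, 1), (1, 53), (2, 450), (3, 50), (4, 350), (5, 504)],
   [(1, 18), (2, 100), (3, 2), (4, 112), (5, 504), (6, 672)],
   [(1, 32), (2, 32), (4, 672), (6, 672)],
   [(1, 4), (2, 32), (3, 12), (4, 160), (5, 288), (6, 552), (7, 360)],
   [(1, 2), (2, 50), (4, 100), (5, 356), (6, 650), (7, 250)],
   [(2, 32), (3, 2), (4, 92), (5, 312), (6, 720), (7, 240), (8, 10)],
   [(4, 160), (5, 320), (6, 640), (7, 288)],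
   [(6, 1280), (8, 128)]]

theorem closed : Closed io phi (s 6) 1408 9 w rows :=
  ⟨cm, rep.bd, by norm_num, trans, rfl, fun i hi => by
    interval_cases i
    exacts [row0, row1, row2, row3, row4, row5, row6, row7, row8], genK, _, _, tinv⟩

theorem above (K : Subgroup G) (hK : io.range ≤ K) (i : ℕ) (hi : i < 9) (h0 : i ≠ 0) (hw : w i ∈ K) :
    s 6 ∈ K := by
  interval_cases i
  · exact (h0 rfl).elim
  · exact (EF.mem b2 hK).1 hw hw
  · exact (EF.mem e7 hK).1 hw hw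
  · have h1 := (EF.mem (ctx.two (c := [4, 1]) [] (nat_lit 44) e36 (SW.nil _) e54 (by decide +kernel)) hK).2 hw (by
      have : w 3 = s 6 * io (ev h [4, 1]) * s 6 := by simp [w, w3, w1, w0]
      exact this ▸ hw)
    exact (EF.mem e51 hK).1 h1 h1
  · exact (EF.mem e24 hK).1 hw hw
  · exact (EF.mem b34 hK).1 hw hw
  · exact (EF.mem e51 hK).1 hw hw
  · exact (EF.mem e67 hK).1 hw hw
  · exact (EF.mem e73 hK).1 hw hw

theorem index_of (ht : s 6 ∉ io.range) : io.range.index = 1539000 := by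
  have := cardH.1
  have := closed.finite
  have := Fintype.ofFinite (G ⧸ io.range)
  have hne : ∀ i < 9, i ≠ 0 → w i ∉ io.range := fun i hi h0 hw => ht (above _ le_rfl i hi h0 hw)
  have f0 : Fn io 9 w [] 0 := Fn.zero
  have f1 : Fn io 9 w [1, 0, 0, 0, 0, 0, 0, 0, 0] (1) :=
    closed.step hne (1) f0 (by decide +kernel)
  have f2 : Fn io 9 w [-189, 1, 0, 0, 0, 0, 0, 0, 0] (1219) :=
    closed.step hne (-189) f1 (by decide +kernel)
  have f3 : Fn io 9 w [-18964, -136, 18, 32, 4, 2, 0, 0, 0] (1695980) :=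
    closed.step hne (-20372) f2 (by decide +kernel)
  have f4 : Fn io 9 w [2715712, -14064, 872, -1088, 1632, 1740, 1632, 1280, 0] (2390847040) :=
    closed.step hne (2907200) f3 (by decide +kernel)
  have f5 : Fn io 9 w [108909568, 3756480, 1988320, 1771264, 2082496, 2178912, 2200992, 2231040, 2088960] (3366441344000) :=
    closed.step hne (128711680) f4 (by decide +kernel)
  have f6 : Fn io 9 w [932667392, 3118355456, 3080468992, 3062337536, 3078755328, 3079276032, 3079632384, 3081625600, 3084656640] (4739945055895552) :=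
    closed.step hne (-4356456448) f5 (by decide +kernel)
  have f7 : Fn io 9 w [4291432939520, 4335052914688, 4336590651392, 4336798924800, 4336571121664, 4336525410304, 4336451321856, 4336442081280, 4336765501440] (6673842539489394688) :=
    closed.step hne (-99211542528) f6 (by decide +kernel)
  have f8 : Fn io 9 w [6105763676160000, 6105763676160000, 6105763676160000, 6105763676160000, 6105763676160000, 6105763676160000, 6105763676160000, 6105763676160000, 6105763676160000] (9396770297610240000000) :=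
    closed.step hne (2009172279296) f7 (by decide +kernel)
  exact closed.index (M := 6105763676160000) f8 (by decide +kernel)

end Cfsg.Agent.DCE.HN
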