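import Cfsg.Agent.DCE.HN.Main
import Cfsg.Agent.DCE.HN.Perf
import Cfsg.Agent.DCE.Size

set_option autoImplicit false
set_option maxRecDepth 100000

namespace Cfsg.Agent.DCE.HN
open Cfsg.Agent.Comp Cfsg.Agent.DCE

theorem sizes {i : ℕ} (hi : i < 9) {g : G} {k : H} (e : cs io g = cs io (w i * io k)) :
    (St io g).index = [1, 1408, 35200, 2200, 123200, 354816, 739200, 277200, 5775].getD i 0 := by
  have := closed.finite
  have := Fintype.ofFinite (G ⧸ io.range)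
  have hne : ∀ i < 9, i ≠ 0 → w i ∉ io.range := fun i hi h0 hw => t_not (above _ le_rfl i hi h0 hw)
  have f0 : Fn io 9 w [] 0 := Fn.zero
  have f1 : Fn io 9 w [1, 0, 0, 0, 0, 0, 0, 0, 0] 1 :=
    closed.step hne 1 f0 (by decide +kernel)
  have f2 : Fn io 9 w [0, 1, 0, 0, 0, 0, 0, 0, 0] 1408 :=
    closed.step hne 0 f1 (by decide +kernel)
  have f3 : Fn io 9 w [1408, 53, 18, 32, 4, 2, 0, 0, 0] 1982464 :=
    closed.step hne 0 f2 (by decide +kernel)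
  have f4 : Fn io 9 w [74624, 16325, 4274, 4960, 2388, 2118, 1632, 1280, 0] 2791309312 :=
    closed.step hne 0 f3 (by decide +kernel)
  obtain ⟨N, h1, h2, h3⟩ := closed.sizes f4 (by decide +kernel)
  have h4 : ∀ v v' : List ℤ, stepB 0 9 rows v 0 0 v' 0 = true →
      (1408 : ℕ) * ∑ i ∈ Finset.range 9, N i * v.getD i 0 + 0 = ∑ i ∈ Finset.range 9, N i * v'.getD i 0 :=
    fun v v' hB => h3 _ _ (closed.step hne 0 (h2 v) (by
      simp only [stepB, Bool.and_eq_true] at hB ⊢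
      exact ⟨hB.1, beq_self_eq_true _⟩))
  have k8 := h3 _ _ f1
  have k0 := h4 [1, 0, 0, 0, 0, 0, 0, 0, 0] [0, 1, 0, 0, 0, 0, 0, 0, 0] (by decide +kernel)
  have k1 := h4 [0, 1, 0, 0, 0, 0, 0, 0, 0] [1408, 53, 18, 32, 4, 2, 0, 0, 0] (by decide +kernel)
  have k2 := h4 [0, 0, 1, 0, 0, 0, 0, 0, 0] [0, 450, 100, 32, 32, 50, 32, 0, 0] (by decide +kernel)
  have k3 := h4 [0, 0, 0, 1, 0, 0, 0, 0, 0] [0, 50, 2, 0, 12, 0, 2, 0, 0] (by decide +kernel)
  have k4 := h4 [0, 0, 0, 0, 1, 0, 0, 0, 0] [0, 350, 112, 672, 160, 100, 92, 160, 0] (by decide +kernel)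
  have k5 := h4 [0, 0, 0, 0, 0, 1, 0, 0, 0] [0, 504, 504, 0, 288, 356, 312, 320, 0] (by decide +kernel)
  have k6 := h4 [0, 0, 0, 0, 0, 0, 1, 0, 0] [0, 0, 672, 672, 552, 650, 720, 640, 1280] (by decide +kernel)
  have k7 := h4 [0, 0, 0, 0, 0, 0, 0, 1, 0] [0, 0, 0, 0, 360, 250, 240, 288, 0] (by decide +kernel)
  simp only [Finset.sum_range_succ, Finset.range_zero, Finset.sum_empty, List.getD_cons_zero,
    List.getD_cons_succ, Nat.cast_ofNat] at k8 k0 k1 k2 k3 k4 k5 k6 k7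
  rw [h1 i hi g k e, ← Nat.cast_inj (R := ℤ)]
  interval_cases i <;> simp only [List.getD_cons_zero, List.getD_cons_succ, Nat.cast_ofNat,
    Nat.cast_one] <;> linarith

end Cfsg.Agent.DCE.HN
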