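import Cfsg.Agent.DCE.HN.PN
import Cfsg.Agent.DCE.HN.T5
import Cfsg.Agent.DCE.HN.TcP
import Cfsg.Agent.DCE.HN.TcP2
import Cfsg.Agent.DCE.HN.TcQ
import Cfsg.Agent.DCE.Rew

set_option autoImplicit false
set_option maxRecDepth 100000

namespace Cfsg.Agent.DCE.HN
open Cfsg.Agent.Comp

def D5 : List (List Nat × List (Nat × Nat × Nat × Nat)) :=
  [([1, 2, 0, 1, 3, 0], []),
   ([1, 3, 0, 1, 2, 0], []),
   ([2, 2, 2, 2, 2, 2], [(0, 4, 1, 0)]),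
   ([1, 2, 0, 1, 2, 0, 1, 2, 0, 1, 2, 0, 1, 2, 0, 1, 2, 0], [(1, 4, 1, 0)]),
   ([1, 2, 0, 2, 2, 2, 1, 2, 0, 2, 2, 2, 1, 2, 0, 2, 2, 2, 1, 2, 0, 2, 2, 2], [(0, 10, 0, 0), (6, 10, 0, 0), (12, 10, 0, 0), (0, 9, 1, 0), (5, 10, 0, 0)]),
   ([1, 2, 0, 1, 2, 0, 2, 2, 2, 1, 2, 0, 1, 2, 0, 2, 2, 2, 1, 2, 0, 1, 2, 0, 2, 2, 2], [(0, 7, 1, 0)])]

theorem s5 {Γ : Type} [Group Γ] {a : ℕ → Γ} (ha : Sat a RP) :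
    CardLe (genW a [[1, 2, 0], [2, 2, 2]]) 120 := by
  have h1 : Sat (fun x => ev a ([[1, 2, 0], [1, 3, 0], [2, 2, 2]].getD x [])) Tc5.R :=
    Sat.subst ((sat_der (L := 4) (iv := 172035073) ha D5 (by decide +kernel)).mono (by decide +kernel))
  have h2 := CardLe.tc (V := letters 3) (V' := []) (n := 120) (m := 1) [0, 1, 2] Tc5.index h1
    (by decide +kernel) (by decide +kernel) (by decide +kernel) (cardLe_nil _)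
  exact h2.of_eq ((genW_mono (V := [[1, 2, 0], [1, 3, 0], [2, 2, 2]]) (by decide +kernel)).trans (gen_subst a _).ge)

theorem upP : CardLe (gen p 4) 756000 :=
  CardLe.tc (V' := [[1, 2, 0], [2, 2, 2]]) (n := 6300) (m := 120) [0, 1, 2, 3] TcP.index presP.sat
    (by decide +kernel) (by decide +kernel) (by decide +kernel) (s5 presP.sat)

theorem satPX : Sat p PX := by
  obtain ⟨φ, hφ⟩ := presP.rep pok psat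
  exact hφ.sat_of_inj (hφ.card_eq upP plow).2.2 (by decide +kernel) psatX

theorem satX {Γ : Type} [Group Γ] {a : ℕ → Γ} (ha : Sat a RP) : Sat a PX := by
  obtain ⟨ψ, hψ⟩ := presP.univ Γ a ha
  exact (satPX.map ψ).congr fun w hw x hx =>
    hψ x ((by decide +kernel : ∀ w ∈ PX, ∀ x ∈ w, x < 4) w hw x hx)

def RQ : List (List Nat) := RH ++ [[0, 0]]

def twA : List (List Nat) :=
  [[0],
   [1],
   [4],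
   [5],
   [2, 0, 2, 1, 3, 1, 3, 1, 2, 0, 2, 1, 3, 1, 3, 1, 2, 0, 2, 1, 3, 1, 3, 1, 2, 0, 2, 1, 3, 1, 3, 1],
   [0, 2, 0, 2, 0, 3, 1, 3, 0, 2, 0, 2, 0, 3, 1, 3, 0, 2, 0, 2, 0, 3, 1, 3, 0, 2, 0, 2, 0, 3, 1, 3],
   [2, 2, 2, 0, 2, 0, 2],
   [3, 1, 3, 1, 3, 3, 3],
   [2, 0, 2, 0, 2, 2, 0, 3],
   [2, 1, 3, 3, 1, 3, 1, 3]]

def RA : List (List Nat) :=
  [[0, 1],
   [1, 0],
   [2, 3],
   [3, 2],
   [4, 5],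
   [5, 4],
   [6, 7],
   [7, 6],
   [8, 9],
   [9, 8],
   [0, 0],
   [2, 2],
   [2, 0, 2, 0],
   [4, 4, 4],
   [0, 4, 0, 4],
   [6, 4, 7, 5],
   [9, 0, 9, 0, 9, 0, 9, 0, 9, 0, 9, 0, 9, 0, 5],
   [3, 9, 2, 8, 1, 1],
   [2, 7, 2, 6, 0, 7, 2, 6, 0, 7, 2, 6, 0]]

def DA0 : List (List Nat × List (Nat × Nat × Nat × Nat)) :=
  [([0, 1], []),
   ([1, 0], []),
   ([4, 5], []),
   ([5, 4], []),
   ([2, 0, 2, 1, 3, 1, 3, 1, 2, 0, 2, 1, 3, 1, 3, 1, 2, 0, 2, 1, 3, 1, 3, 1, 2, 0, 2, 1, 3, 1, 3, 1, 0, 2, 0, 2, 0, 3, 1, 3, 0, 2, 0, 2, 0, 3, 1, 3, 0, 2, 0, 2, 0, 3, 1, 3, 0, 2, 0, 2, 0, 3, 1, 3], []),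
   ([0, 2, 0, 2, 0, 3, 1, 3, 0, 2, 0, 2, 0, 3, 1, 3, 0, 2, 0, 2, 0, 3, 1, 3, 0, 2, 0, 2, 0, 3, 1, 3, 2, 0, 2, 1, 3, 1, 3, 1, 2, 0, 2, 1, 3, 1, 3, 1, 2, 0, 2, 1, 3, 1, 3, 1, 2, 0, 2, 1, 3, 1, 3, 1], []),
   ([2, 2, 2, 0, 2, 0, 2, 3, 1, 3, 1, 3, 3, 3], []),
   ([3, 1, 3, 1, 3, 3, 3, 2, 2, 2, 0, 2, 0, 2], []),
   ([2, 0, 2, 0, 2, 2, 0, 3, 2, 1, 3, 3, 1, 3, 1, 3], []),
   ([2, 1, 3, 3, 1, 3, 1, 3, 2, 0, 2, 0, 2, 2, 0, 3], []),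
   ([0, 0], [(0, 16, 1, 0)]),
   ([4, 4], [(0, 12, 1, 0)]),
   ([4, 0, 4, 0], [(0, 13, 1, 0)]),
   ([2, 0, 2, 1, 3, 1, 3, 1, 2, 0, 2, 1, 3, 1, 3, 1, 2, 0, 2, 1, 3, 1, 3, 1, 2, 0, 2, 1, 3, 1, 3, 1, 2, 0, 2, 1, 3, 1, 3, 1, 2, 0, 2, 1, 3, 1, 3, 1, 2, 0, 2, 1, 3, 1, 3, 1, 2, 0, 2, 1, 3, 1, 3, 1, 2, 0, 2, 1, 3, 1, 3, 1, 2, 0, 2, 1, 3, 1, 3, 1, 2, 0, 2, 1, 3, 1, 3, 1, 2, 0, 2, 1, 3, 1, 3, 1], [(0, 17, 1, 0)]),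
   ([0, 2, 0, 2, 1, 3, 1, 3, 1, 2, 0, 2, 1, 3, 1, 3, 1, 2, 0, 2, 1, 3, 1, 3, 1, 2, 0, 2, 1, 3, 1, 3, 1, 0, 2, 0, 2, 1, 3, 1, 3, 1, 2, 0, 2, 1, 3, 1, 3, 1, 2, 0, 2, 1, 3, 1, 3, 1, 2, 0, 2, 1, 3, 1, 3, 1], [(28, 16, 0, 0), (24, 16, 0, 0), (20, 16, 0, 0), (16, 16, 0, 0), (12, 16, 0, 0), (8, 16, 0, 0), (4, 16, 0, 0)]),
   ([2, 2, 2, 0, 2, 0, 2, 2, 0, 2, 1, 3, 1, 3, 1, 2, 0, 2, 1, 3, 1, 3, 1, 2, 0, 2, 1, 3, 1, 3, 1, 2, 0, 2, 1, 3, 1, 3, 1, 3, 1, 3, 1, 3, 3, 3, 0, 2, 0, 2, 0, 3, 1, 3, 0, 2, 0, 2, 0, 3, 1, 3, 0, 2, 0, 2, 0, 3, 1, 3, 0, 2, 0, 2, 0, 3, 1, 3], [(0, 19, 1, 0)]),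
   ([2, 1, 3, 3, 1, 3, 1, 3, 0, 2, 1, 3, 3, 1, 3, 1, 3, 0, 2, 1, 3, 3, 1, 3, 1, 3, 0, 2, 1, 3, 3, 1, 3, 1, 3, 0, 2, 1, 3, 3, 1, 3, 1, 3, 0, 2, 1, 3, 3, 1, 3, 1, 3, 0, 2, 1, 3, 3, 1, 3, 1, 3, 0, 0, 2, 0, 2, 0, 3, 1, 3, 0, 2, 0, 2, 0, 3, 1, 3, 0, 2, 0, 2, 0, 3, 1, 3, 0, 2, 0, 2, 0, 3, 1, 3], [(0, 20, 1, 0)]),
   ([5, 2, 1, 3, 3, 1, 3, 1, 3, 4, 2, 0, 2, 0, 2, 2, 0, 3, 1, 1], [(0, 14, 1, 0)]),
   ([4, 3, 1, 3, 1, 3, 3, 3, 4, 2, 2, 2, 0, 2, 0, 2, 0, 3, 1, 3, 1, 3, 3, 3, 4, 2, 2, 2, 0, 2, 0, 2, 0, 3, 1, 3, 1, 3, 3, 3, 4, 2, 2, 2, 0, 2, 0, 2, 0], [(0, 15, 1, 0)])]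

def DA : List (List Nat × List (Nat × Nat × Nat × Nat)) :=
  [([2, 9, 0, 3, 1, 8], [(3, 12, 0, 1), (2, 10, 1, 0), (1, 17, 1, 5), (0, 11, 1, 0), (0, 10, 1, 0)]),
   ([2, 9, 0, 9, 0, 9, 0, 9, 0, 9, 0, 9, 0, 9, 0, 3, 1, 8, 1, 8, 1, 8, 1, 8, 1, 8, 1, 8, 1, 8], [(13, 19, 1, 5), (11, 19, 1, 5), (9, 19, 1, 5), (7, 19, 1, 5), (5, 19, 1, 5), (3, 19, 1, 5), (0, 19, 1, 0)]),
   ([2, 4, 3, 5], [(3, 16, 1, 1), (2, 20, 1, 15), (1, 16, 0, 0)]),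
   ([7, 2, 6, 0, 4, 1, 7, 3, 6, 4], [(5, 10, 0, 0), (3, 14, 1, 0), (2, 15, 0, 3), (1, 21, 0, 3), (0, 15, 1, 2)]),
   ([4, 7, 2, 6, 0, 7, 2, 6, 0, 7, 2, 6, 0, 4, 1, 7, 3, 6, 1, 7, 3, 6, 1, 7, 3, 6], [(9, 22, 1, 0), (5, 22, 0, 9), (0, 22, 1, 1)]),
   ([2, 4, 3, 4], [(0, 18, 1, 0), (0, 23, 1, 12), (1, 18, 0, 0)]),
   ([4, 4], [(0, 13, 1, 0), (0, 24, 0, 0), (0, 11, 1, 0), (0, 24, 1, 2), (0, 13, 0, 0), (1, 21, 1, 3), (0, 24, 1, 3), (0, 11, 0, 0)]),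
   ([4], [(0, 25, 1, 0), (0, 13, 0, 0), (0, 25, 1, 0)])]

theorem kill {Γ : Type} [Group Γ] {a : ℕ → Γ} (ha : Sat a RQ) : Sat a (RP ++ [cw]) := by
  have h0 : Sat a RP := ha.mono (by decide +kernel)
  have h1 : Sat (fun x => ev a (twA.getD x [])) RA :=
    Sat.subst ((sat_der (L := 6) (iv := iv6) (ha.append (satX h0)) DA0 (by decide +kernel)).mono
      (by decide +kernel))
  have h2 := sat_der (L := 10) (iv := 407867350672542721) h1 DA (by decide +kernel) [4] (by decide +kernel)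
  refine h0.append fun w hw => ?_
  rw [List.mem_singleton.mp hw]
  rw [ev_single] at h2
  exact h2

theorem upQ {Γ : Type} [Group Γ] {a : ℕ → Γ} (ha : Sat a RQ) : CardLe (gen a 6) 88704000 := by
  have h1 : CardLe (genW a (letters 4)) 252000 :=
    CardLe.tc (V' := [[1, 2, 0], [2, 2, 2]]) (n := 2100) (m := 120) [0, 1, 2, 3] TcP2.index (kill ha)
      (by decide +kernel) (by decide +kernel) (by decide +kernel)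
      (s5 (ha.mono (by decide +kernel)))
  exact CardLe.tc (V' := letters 4) (n := 352) (m := 252000) [0, 1, 2, 3, 4, 5] TcQ.index ha
    (by decide +kernel) (by decide +kernel) (by decide +kernel) h1

def DB : List (List Nat × List (Nat × Nat × Nat × Nat)) :=
  [([0, 0, 2, 0, 0, 3], [(0, 7, 1, 0)]),
   ([0, 0, 3, 0, 0, 2], [(0, 7, 1, 3)]),
   ([0, 0, 4, 0, 0, 5], [(1, 13, 1, 1), (1, 12, 0, 0), (0, 13, 1, 1), (0, 12, 0, 0)]),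
   ([1, 2, 2, 0, 2, 2, 2, 0, 0, 3, 3, 3, 1, 3, 3, 0, 0, 0], [(6, 16, 1, 4), (5, 16, 0, 0), (3, 16, 1, 5), (2, 16, 0, 0), (1, 16, 1, 4)]),
   ([0, 0, 1, 2, 2, 0, 2, 2, 2, 1, 2, 2, 0, 2, 2, 2, 1, 2, 2, 0, 2, 2, 2, 0, 0, 3, 3, 3, 1, 3, 3, 0, 3, 3, 3, 1, 3, 3, 0, 3, 3, 3, 1, 3, 3, 0], [(14, 19, 1, 0), (7, 19, 0, 16), (1, 19, 1, 17)]),
   ([0, 0, 0, 0], [(3, 9, 0, 1), (1, 20, 1, 1), (1, 9, 1, 6)]),
   ([0, 0, 2, 1, 1, 3], [(2, 7, 0, 0), (0, 21, 1, 0)]),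
   ([0, 0, 4, 1, 1, 5], [(2, 18, 0, 0), (0, 21, 1, 0)])]

theorem satB {Γ : Type*} [Group Γ] {a : ℕ → Γ} (ha : Sat a RH) : Sat a (DB.map Prod.fst) :=
  sat_der (L := 6) (iv := iv6) ha DB (by decide +kernel)

theorem invH {Γ : Type*} [Group Γ] {a : ℕ → Γ} (ha : Sat a RH) :
    ∀ y < 6, invL iv6 y < 6 ∧ a (invL iv6 y) = (a y)⁻¹ :=
  (invOK_spec (by decide +kernel : invOK 6 iv6 RH = true) ha).1

theorem inv1 {Γ : Type*} [Group Γ] {a : ℕ → Γ} (ha : Sat a RH) :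
    a 1 = (a 0)⁻¹ ∧ a 3 = (a 2)⁻¹ ∧ a 5 = (a 4)⁻¹ :=
  ⟨(invH ha 0 (by norm_num)).2, (invH ha 2 (by norm_num)).2, (invH ha 4 (by norm_num)).2⟩

theorem x4 {Γ : Type*} [Group Γ] {a : ℕ → Γ} (ha : Sat a RH) : (a 0 * a 0) ^ 2 = 1 := by
  have := satB ha [0, 0, 0, 0] (by decide +kernel)
  simp only [ev_cons, ev_nil] at this
  rw [← this]; simp only [pow_two, mul_assoc, mul_one]

theorem cenx : h 0 * h 0 ∈ Subgroup.center H := by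
  obtain ⟨e1, e2, e3⟩ := inv1 presH.sat
  have h1 := satB presH.sat [0, 0, 2, 1, 1, 3] (by decide +kernel)
  have h2 := satB presH.sat [0, 0, 4, 1, 1, 5] (by decide +kernel)
  simp only [ev_cons, ev_nil, e1, e2, e3] at h1 h2
  have k : ∀ g : H, h 0 * (h 0 * (g * ((h 0)⁻¹ * ((h 0)⁻¹ * (g⁻¹ * 1))))) = 1 →
      g ∈ Subgroup.centralizer {h 0 * h 0} := fun g hg => by
    rw [Subgroup.mem_centralizer_singleton_iff]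
    calc g * (h 0 * h 0) = (h 0 * (h 0 * (g * ((h 0)⁻¹ * ((h 0)⁻¹ * (g⁻¹ * 1)))))) * g * (h 0 * h 0) := by
          rw [hg, one_mul]
      _ = _ := by group
  have k0 : h 0 ∈ Subgroup.centralizer {h 0 * h 0} := by
    rw [Subgroup.mem_centralizer_singleton_iff, mul_assoc]
  have : gen h 6 ≤ Subgroup.centralizer {h 0 * h 0} := gen_le.mpr fun x hx => by
    interval_cases x
    exacts [k0, e1 ▸ inv_mem k0, k _ h1, e2 ▸ inv_mem (k _ h1), k _ h2, e3 ▸ inv_mem (k _ h2)]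
  rw [Subgroup.mem_center_iff]
  intro g
  exact Subgroup.mem_centralizer_singleton_iff.mp (this (presH.top ▸ Subgroup.mem_top g))

theorem upH : CardLe (gen h 6) 177408000 := by
  have hN : (Subgroup.zpowers (h 0 * h 0)).Normal :=
    ⟨fun n hn g => by
      rw [Subgroup.mem_center_iff.mp ((Subgroup.zpowers_le.mpr cenx) hn) g, mul_inv_cancel_right]
      exact hn⟩
  let π := QuotientGroup.mk' (Subgroup.zpowers (h 0 * h 0))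
  have h1 : Sat (fun x => π (h x)) RQ := (presH.sat.map π).append fun w hw => by
    rw [List.mem_singleton.mp hw, ← map_ev, ev_cons, ev_single]
    exact (QuotientGroup.eq_one_iff _).mpr (Subgroup.mem_zpowers _)
  have h2 := upQ h1
  have h3 : gen (fun x => π (h x)) 6 = ⊤ := by
    rw [gen, ← map_genW, show genW h (letters 6) = ⊤ from presH.top,
      Subgroup.map_top_of_surjective _ (QuotientGroup.mk'_surjective _)]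
  rw [h3] at h2
  have h4 : CardLe (Subgroup.zpowers (h 0 * h 0)) 2 := by
    have : IsOfFinOrder (h 0 * h 0) := isOfFinOrder_iff_pow_eq_one.mpr ⟨2, two_pos, x4 presH.sat⟩
    exact ⟨this.finite_zpowers, by
      rw [Nat.card_zpowers]; exact orderOf_le_of_pow_eq_one two_pos (x4 presH.sat)⟩
  have h5 : Finite (H ⧸ Subgroup.zpowers (h 0 * h 0)) :=
    have := h2.1; Finite.of_equiv _ Subgroup.topEquiv.toEquiv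
  have h6 := h2.2
  rw [Subgroup.card_top] at h6
  rw [presH.top]
  refine h4.step (n := 88704000) ?_
  rw [Subgroup.relIndex_top_right]
  exact ⟨Nat.card_pos.ne', h6⟩

end Cfsg.Agent.DCE.HN
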